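import Groth.Agent.Zeta30.Closed

/-! Convergence for the norms of closed points of an arithmetic scheme. -/

set_option autoImplicit false
set_option linter.style.haveILetI false

universe u

open CategoryTheory AlgebraicGeometry

namespace Groth.Agent.Zeta30

variable {X : Scheme.{u}} (f : X ⟶ Spec (CommRingCat.of (ULift.{u} ℤ))) [LocallyOfFiniteType f]
  [QuasiCompact f]

include f in
theorem finite_points (F : Type u) [Field F] [Finite F] : Finite (Spec (CommRingCat.of F) ⟶ X) := by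
  classical
  have : CompactSpace X := QuasiCompact.compactSpace_of_compactSpace f
  let 𝒰 := X.affineCover.finiteSubcover
  have : ∀ i, IsAffine (𝒰.X i) := fun i => inferInstanceAs (IsAffine (X.affineCover.X _))
  have key : ∀ i, Finite (Spec (CommRingCat.of F) ⟶ 𝒰.X i) := by
    intro i
    let φ : CommRingCat.of (ULift.{u} ℤ) ⟶ Γ(𝒰.X i, ⊤) := Spec.preimage ((𝒰.X i).isoSpec.inv ≫ 𝒰.f i ≫ f)
    have hφ : Spec.map φ = (𝒰.X i).isoSpec.inv ≫ 𝒰.f i ≫ f := Spec.map_preimage _
    let B : Type u := Γ(𝒰.X i, ⊤)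
    let : Algebra (ULift.{u} ℤ) B := φ.hom.toAlgebra
    have : Algebra.FiniteType (ULift.{u} ℤ) B := by
      have : LocallyOfFiniteType (Spec.map φ) := hφ ▸ inferInstance
      rw [HasRingHomProperty.Spec_iff (P := @LocallyOfFiniteType)] at this
      exact this
    let χ : ULift.{u} ℤ →+* B := φ.hom
    obtain ⟨S, hS⟩ := ‹Algebra.FiniteType (ULift.{u} ℤ) B›.out
    have : Finite (B →+* F) := by
      refine Finite.of_injective (fun (g : B →+* F) (s : S) => g s.1) fun g g' h => RingHom.ext fun b => ?_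
      have hb : b ∈ Algebra.adjoin (ULift.{u} ℤ) (S : Set B) := hS ▸ trivial
      induction hb using Algebra.adjoin_induction with
      | mem x hx => exact congrFun h ⟨x, hx⟩
      | algebraMap r =>
        exact DFunLike.congr_fun ((PtCount95.subsingleton_Z0_hom F).elim (g.comp (algebraMap (ULift.{u} ℤ) B))
          (g'.comp (algebraMap (ULift.{u} ℤ) B))) r
      | add x y _ _ hx hy => rw [map_add, map_add, hx, hy]
      | mul x y _ _ hx hy => rw [map_mul, map_mul, hx, hy]
    have e : (Spec (CommRingCat.of F) ⟶ 𝒰.X i) ≃ (B →+* F) :=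
      ((𝒰.X i).isoSpec.homToEquiv).trans (Spec.homEquiv.trans
        ⟨fun g => g.hom, fun g => CommRingCat.ofHom (R := B) g, fun _ => rfl, fun _ => rfl⟩)
    exact Finite.of_equiv _ e.symm
  refine Finite.of_surjective (fun x : Σ i, Spec (CommRingCat.of F) ⟶ 𝒰.X i => x.2 ≫ 𝒰.f x.1) fun g => ?_
  let x := g (default : Spec (CommRingCat.of F))
  have hsub : Set.range g ⊆ Set.range (𝒰.f (𝒰.idx x)) := by
    rintro _ ⟨y, rfl⟩
    rw [Subsingleton.elim y default]
    exact 𝒰.covers x
  exact ⟨⟨_, IsOpenImmersion.lift (𝒰.f (𝒰.idx x)) g hsub⟩, IsOpenImmersion.lift_fac _ _ _⟩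

include f in
/-- The norms of the closed points are summable above the dimension. -/
theorem summable_nrm (r : ℕ) (hr : topologicalKrullDim X ≤ r) {σ : ℝ} (hσ : (r : ℝ) < σ) :
    Summable fun x : CP X => (nrm X x : ℝ) ^ (-σ) := by
  classical
  obtain ⟨c, p₀, hc, hbd⟩ := S13070.result f r hr
  let G : ℕ → ℕ → ℝ := fun p n => if n ∈ Set.range (fun m : ℕ => p ^ m) then (n : ℝ) ^ ((r : ℝ) - σ) else 0
  have hG0 : ∀ p n, 0 ≤ G p n := fun p n => by
    simp only [G]; split <;> positivity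
  have hG : ∀ p : ℕ, p.Prime → Summable (G p) := fun p hp => by
    refine ((Nat.pow_right_injective hp.two_le).summable_iff fun n hn => if_neg hn).1 ?_
    have hlt : (p : ℝ) ^ ((r : ℝ) - σ) < 1 :=
      Real.rpow_lt_one_of_one_lt_of_neg (by exact_mod_cast hp.one_lt) (by linarith)
    refine (summable_geometric_of_lt_one (Real.rpow_nonneg (Nat.cast_nonneg _) _) hlt).congr fun m => ?_
    show _ = G p (p ^ m)
    simp only [G, if_pos (Set.mem_range.2 ⟨m, rfl⟩)]
    rw [Nat.cast_pow, ← Real.rpow_natCast, ← Real.rpow_natCast, ← Real.rpow_mul (Nat.cast_nonneg _),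
      ← Real.rpow_mul (Nat.cast_nonneg _), mul_comm]
  have hcount : ∀ n : ℕ, Finite {x : CP X // nrm X x = n} ∧
      (Nat.card {x : CP X // nrm X x = n} : ℝ) * (n : ℝ) ^ (-σ) ≤
        c * ((n : ℝ) ^ ((r : ℝ) - 1 - σ) + ∑ p ∈ (Finset.range p₀).filter Nat.Prime, G p n) := by
    intro n
    have hRHS : 0 ≤ c * ((n : ℝ) ^ ((r : ℝ) - 1 - σ) + ∑ p ∈ (Finset.range p₀).filter Nat.Prime, G p n) :=
      mul_nonneg hc.le (add_nonneg (Real.rpow_nonneg (Nat.cast_nonneg _) _) (Finset.sum_nonneg fun p _ => hG0 p n))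
    by_cases hne : Nonempty {x : CP X // nrm X x = n}
    swap
    · rw [not_nonempty_iff] at hne
      refine ⟨inferInstance, ?_⟩
      rw [Nat.card_of_isEmpty, Nat.cast_zero, zero_mul]
      exact hRHS
    obtain ⟨x₀, hx₀⟩ := hne
    have := finite_residueField f x₀
    let F : Type u := X.residueField x₀.1
    have := finite_points f F
    obtain ⟨hfin, hle⟩ := card_nrm_le (X := X) (n := n) F hx₀
    refine ⟨hfin, ?_⟩
    have := Fintype.ofFinite F
    obtain ⟨p, hp⟩ := CharP.exists F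
    obtain ⟨m, hpp, hm⟩ := FiniteField.card F p
    have hn : n = p ^ (m : ℕ) := by rw [← hx₀, ← hm]; exact Nat.card_eq_fintype_card
    have hn0 : (0 : ℝ) < n := by rw [hn, Nat.cast_pow]; exact pow_pos (Nat.cast_pos.2 hpp.pos) _
    obtain ⟨h1, h2⟩ := hbd p m hpp m.2 F (hx₀.trans hn)
    have hle' : (Nat.card {x : CP X // nrm X x = n} : ℝ) ≤ Nat.card (Spec (CommRingCat.of F) ⟶ X) := by
      exact_mod_cast hle
    have hpow : ∀ E : ℝ, c * (p : ℝ) ^ (((m : ℕ) : ℝ) * E) = c * (n : ℝ) ^ E := fun E => by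
      rw [hn, Nat.cast_pow, Real.rpow_natCast_mul (Nat.cast_nonneg _)]
    rcases le_or_gt p₀ p with hp0 | hp0
    · have h3 := (hle'.trans (h1 hp0)).trans_eq (hpow _)
      refine (mul_le_mul_of_nonneg_right h3 (Real.rpow_nonneg hn0.le _)).trans ?_
      rw [mul_assoc, ← Real.rpow_add hn0, ← sub_eq_add_neg]
      exact mul_le_mul_of_nonneg_left (le_add_of_nonneg_right (Finset.sum_nonneg fun p _ => hG0 p n)) hc.le
    · have h3 := (hle'.trans (h2 hp0)).trans_eq (hpow _)
      refine (mul_le_mul_of_nonneg_right h3 (Real.rpow_nonneg hn0.le _)).trans ?_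
      rw [mul_assoc, ← Real.rpow_add hn0, ← sub_eq_add_neg]
      refine mul_le_mul_of_nonneg_left (le_trans ?_ (le_add_of_nonneg_left (Real.rpow_nonneg hn0.le _))) hc.le
      refine le_trans (le_of_eq ?_)
        (Finset.single_le_sum (f := fun q => G q n) (fun q _ => hG0 q n)
          (Finset.mem_filter.2 ⟨Finset.mem_range.2 hp0, hpp⟩))
      simp only [G, if_pos (Set.mem_range.2 ⟨(m : ℕ), hn.symm⟩)]
  rw [← (Equiv.sigmaFiberEquiv (nrm X)).summable_iff]
  refine (summable_sigma_of_nonneg fun x => Real.rpow_nonneg (Nat.cast_nonneg _) _).2 ⟨fun n => ?_, ?_⟩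
  · have := (hcount n).1
    exact Summable.of_finite
  · refine Summable.of_nonneg_of_le (fun n => tsum_nonneg fun x => Real.rpow_nonneg (Nat.cast_nonneg _) _)
      (fun n => ?_)
      ((((Real.summable_nat_rpow.2 (by linarith : (r : ℝ) - 1 - σ < -1)).add
        (summable_sum (f := G) (s := (Finset.range p₀).filter Nat.Prime)
          fun p hp => hG p (Finset.mem_filter.1 hp).2))).mul_left c)
    refine le_trans (le_of_eq ?_) (hcount n).2
    have := (hcount n).1
    have := Fintype.ofFinite {x : CP X // nrm X x = n}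
    rw [tsum_fintype, Finset.sum_congr rfl fun x _ => show _ = (n : ℝ) ^ (-σ) by
      simp only [Equiv.sigmaFiberEquiv_apply]; rw [x.2],
      Finset.sum_const, Finset.card_univ, nsmul_eq_mul, Nat.card_eq_fintype_card]

include f in
theorem arith_le (r : ℕ) (hr : topologicalKrullDim X ≤ r) :
    LSeries.abscissaOfAbsConv (Zeta.arithCoeff X) ≤ (r : ℝ) ∧
      ∀ s : ℂ, (r : ℝ) < s.re → LSeries (Zeta.arithCoeff X) s ≠ 0 := by
  have key : ∀ s : ℂ, (r : ℝ) < s.re →
      LSeriesSummable (Zeta.arithCoeff X) s ∧ LSeries (Zeta.arithCoeff X) s ≠ 0 := fun s hs => by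
    rw [arithCoeff_eq]
    exact (LSeries_cyc (nrm X) (two_le_nrm f) ((Nat.cast_nonneg r).trans_lt hs)
      (summable_nrm f r hr hs)).2
  exact ⟨LSeries.abscissaOfAbsConv_le_of_forall_lt_LSeriesSummable fun y hy =>
    (key y (by simpa using hy)).1, fun s hs => (key s hs).2⟩

end Groth.Agent.Zeta30
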