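import Groth.Agent.Zeta30.Sum

/-! Schemes over finite fields as arithmetic schemes. -/

set_option autoImplicit false

universe u

open CategoryTheory AlgebraicGeometry

namespace Groth.Agent.Zeta30

variable (k : Type u) [Field k]

/-- The structure map of a field over the integers. -/
noncomputable def specToInt : Spec (CommRingCat.of k) ⟶ Spec (CommRingCat.of (ULift.{u} ℤ)) :=
  Spec.map (CommRingCat.ofHom ((Int.castRingHom k).comp ULift.ringEquiv.toRingHom))

instance [Finite k] : LocallyOfFiniteType (specToInt k) := by
  rw [specToInt, HasRingHomProperty.Spec_iff (P := @LocallyOfFiniteType)]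
  let : Algebra (ULift.{u} ℤ) k := ((Int.castRingHom k).comp ULift.ringEquiv.toRingHom).toAlgebra
  have : Module.Finite (ULift.{u} ℤ) k := Module.Finite.of_finite
  exact RingHom.finiteType_algebraMap.2 (inferInstance : Algebra.FiniteType (ULift.{u} ℤ) k)

end Groth.Agent.Zeta30
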