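import Groth.Agent.FF30.RH
import Groth.Agent.FF30.Rational
import Groth.Agent.FF30.Ext
import Groth.Agent.FF30.RatPlaces
import Mathlib.RingTheory.AdjoinRoot
import Mathlib.RingTheory.Polynomial.GaussLemma
import Mathlib.RingTheory.Polynomial.UniqueFactorization
import Mathlib.Algebra.Polynomial.Bivariate
import Mathlib.RingTheory.DedekindDomain.Different

/-! Plane curves over finite fields with a simple rational point have many rational points. -/

set_option autoImplicit false
set_option linter.style.haveILetI false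

open FunFld WithZero Polynomial
open scoped Multiplicative IntermediateField Polynomial.Bivariate

namespace Groth.Agent.Zeta30

open FF30

variable {F : Type*} [Field F]

/-- Evaluation at a point. -/
noncomputable def evp (t₀ y₀ : F) : F[X][Y] →+* F := evalEvalRingHom t₀ y₀

theorem evp_apply (t₀ y₀ : F) (p : F[X][Y]) : evp t₀ y₀ p = p.evalEval t₀ y₀ := rfl

theorem exists_factor {f : F[X][Y]} (hf : f.Monic) {t₀ y₀ : F} (h0 : evp t₀ y₀ f = 0)
    (h1 : evp t₀ y₀ (derivative f) ≠ 0) :
    ∃ h : F[X][Y], Irreducible h ∧ h.Monic ∧ h ∣ f ∧ evp t₀ y₀ h = 0 ∧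
      evp t₀ y₀ (derivative h) ≠ 0 := by
  classical
  obtain ⟨u, hu⟩ := UniqueFactorizationMonoid.factors_prod hf.ne_zero
  have h2 : evp t₀ y₀ (UniqueFactorizationMonoid.factors f).prod * evp t₀ y₀ (u : F[X][Y]) = 0 := by
    rw [← map_mul, hu, h0]
  have h3 : evp t₀ y₀ (UniqueFactorizationMonoid.factors f).prod = 0 :=
    (mul_eq_zero.1 h2).resolve_right (u.isUnit.map (evp t₀ y₀)).ne_zero
  rw [map_multiset_prod, Multiset.prod_eq_zero_iff, Multiset.mem_map] at h3
  obtain ⟨g, hg, hg0⟩ := h3
  have hgf : g ∣ f := (Multiset.dvd_prod hg).trans ⟨u, hu.symm⟩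
  have hunit : IsUnit g.leadingCoeff := by
    obtain ⟨s, hs⟩ := hgf
    refine isUnit_of_dvd_one ⟨s.leadingCoeff, ?_⟩
    rw [← leadingCoeff_mul, ← hs, hf.leadingCoeff]
  obtain ⟨v, hv⟩ := hunit
  set h := C ((v⁻¹ : F[X]ˣ) : F[X]) * g with hh
  have hass : Associated g h := ⟨Units.map (C : F[X] →+* F[X][Y]).toMonoidHom v⁻¹, by
    show g * C ((v⁻¹ : F[X]ˣ) : F[X]) = _
    rw [hh, mul_comm]⟩
  have hirr : Irreducible h := hass.irreducible (UniqueFactorizationMonoid.irreducible_of_factor g hg)
  have hmon : h.Monic := by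
    rw [Monic.def, hh, leadingCoeff_mul, leadingCoeff_C, ← hv, Units.inv_mul]
  have hd : h ∣ f := hass.symm.dvd.trans hgf
  have he : evp t₀ y₀ h = 0 := by rw [hh, map_mul, hg0, mul_zero]
  refine ⟨h, hirr, hmon, hd, he, fun hz => h1 ?_⟩
  obtain ⟨s, rfl⟩ := hd
  show evp t₀ y₀ (derivative (h * s)) = 0
  rw [show derivative (h * s) = derivative h * s + h * derivative s from derivative_mul, map_add, map_mul (evp t₀ y₀), map_mul (evp t₀ y₀), hz, he, zero_mul, zero_mul, zero_add]

theorem evp_derivative_eq_zero {h G G'' s : F[X][Y]} {t₀ y₀ c : F} (h0 : evp t₀ y₀ h = 0)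
    (h1 : evp t₀ y₀ (derivative h) ≠ 0)
    (hs : derivative h * derivative h - (G - C (C c) * derivative h) * G'' = h * s)
    (hc : c = evp t₀ y₀ G / evp t₀ y₀ (derivative h)) : evp t₀ y₀ (derivative h) = 0 := by
  have hCC : evp t₀ y₀ (C (C c)) = c := by simp [evp]
  have h2 := congrArg (evp t₀ y₀) hs
  simp only [map_sub, map_mul, h0, zero_mul, hCC] at h2
  rw [hc, div_mul_cancel₀ _ h1, sub_self, zero_mul, sub_zero, mul_self_eq_zero] at h2
  exact h2

variable {K : Type*} [Field K] [Algebra F K]

theorem val_root_le (P : Place F K) (x y : K) {f : F[X][Y]} (hf : f.Monic) {e : ℕ}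
    (he : ∀ i, (f.coeff i).natDegree ≤ e)
    (hy : f.eval₂ (Polynomial.aeval (R := F) x).toRingHom y = 0) :
    P.1 y ≤ max 1 (P.1 x) ^ e := by
  set a := max 1 (P.1 x) with ha
  have ha1 : 1 ≤ a := le_max_left _ _
  have hc : ∀ i, P.1 (Polynomial.aeval x (f.coeff i)) ≤ a ^ e := fun i => by
    rw [Polynomial.aeval_eq_sum_range]
    refine P.1.map_sum_le fun j hj => ?_
    rw [Algebra.smul_def, map_mul, map_pow]
    refine (mul_le_mul' (P.2.1 _) (pow_le_pow_left₀ zero_le (le_max_right 1 (P.1 x)) _)).trans ?_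
    rw [one_mul]
    exact pow_le_pow_right₀ ha1 (Nat.lt_succ_iff.1 (Finset.mem_range.1 hj) |>.trans (he i))
  by_contra hlt
  rw [not_le] at hlt
  have hy0 : 1 < P.1 y := lt_of_le_of_lt (one_le_pow₀ ha1) hlt
  rw [Polynomial.eval₂_eq_sum_range, Finset.sum_range_succ, hf.coeff_natDegree, map_one, one_mul,
    add_eq_zero_iff_eq_neg'] at hy
  have h2 := congrArg P.1 hy
  rw [Valuation.map_neg, map_pow] at h2
  have h3 : P.1 (∑ i ∈ Finset.range f.natDegree,
      (Polynomial.aeval (R := F) x).toRingHom (f.coeff i) * y ^ i) < P.1 y ^ f.natDegree := by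
    refine P.1.map_sum_lt (pow_ne_zero _ (zero_lt_one.trans hy0).ne') fun i hi => ?_
    rw [Finset.mem_range] at hi
    rw [map_mul, map_pow]
    refine lt_of_le_of_lt (mul_le_mul' (hc i) le_rfl) ?_
    calc a ^ e * P.1 y ^ i < P.1 y * P.1 y ^ i :=
          mul_lt_mul_of_pos_right hlt (pow_pos (zero_lt_one.trans hy0) _)
      _ = P.1 y ^ (i + 1) := by rw [pow_succ']
      _ ≤ P.1 y ^ f.natDegree := pow_le_pow_right₀ hy0.le hi
  rw [h2] at h3
  exact lt_irrefl _ h3

/-- Integral elements times the derivative lie in the monogenic ring. -/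
theorem exists_derivative_mul_eq {A L B : Type*} [CommRing A] [IsDomain A] [IsIntegrallyClosed A]
    [Field L] [Algebra A L] [IsFractionRing A L] [Field B] [Algebra L B] [Algebra A B]
    [IsScalarTower A L B] [FiniteDimensional L B] [Algebra.IsSeparable L B]
    {y : B} (hy : IsIntegral A y) (htop : Algebra.adjoin L {y} = ⊤) {a : B} (ha : IsIntegral A a) :
    ∃ G : A[X], Polynomial.aeval y G = Polynomial.aeval y (derivative (minpoly A y)) * a := by
  classical
  have hmem : a ∈ (Algebra.traceForm L B).dualSubmodule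
      (Subalgebra.toSubmodule (Algebra.adjoin A {y})) := by
    intro z hz
    have hz' : IsIntegral A z := by
      have hz1 : z ∈ Algebra.adjoin A {y} := hz
      exact adjoin_le_integralClosure hy hz1
    rw [Algebra.traceForm_apply, Submodule.mem_one]
    exact IsIntegrallyClosed.isIntegral_iff.mp (Algebra.isIntegral_trace (ha.mul hz'))
  rw [traceForm_dualSubmodule_adjoin A L htop hy, Submodule.mem_smul_pointwise_iff_exists] at hmem
  obtain ⟨w, hw, rfl⟩ := hmem
  have hw1 : w ∈ Algebra.adjoin A {y} := hw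
  rw [Algebra.adjoin_singleton_eq_range_aeval] at hw1
  obtain ⟨G, rfl⟩ := hw1
  refine ⟨G, ?_⟩
  rw [minpoly.isIntegrallyClosed_eq_field_fractions' L hy, derivative_map, aeval_map_algebraMap,
    smul_eq_mul, mul_inv_cancel_left₀]
  · rfl
  · intro h0
    have h1 := Algebra.IsSeparable.isSeparable L y
    have := h1.aeval_derivative_ne_zero (minpoly.aeval L y)
    rw [minpoly.isIntegrallyClosed_eq_field_fractions' L hy, derivative_map, aeval_map_algebraMap] at this
    exact this h0

theorem genus_le_plane (hK : IsFunctionField F K) {x y : K} (hx : Transcendental F x) {f : F[X][Y]}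
    (hf : f.Monic) {e m : ℕ} (he : ∀ i, (f.coeff i).natDegree ≤ e)
    (hy : f.eval₂ (Polynomial.aeval (R := F) x).toRingHom y = 0)
    (hli : LinearIndependent F⟮x⟯ (fun i : Fin m => y ^ (i : ℕ)))
    (hm : Module.finrank F⟮x⟯ K = m) : genus F K ≤ e * m * m + 1 := by
  classical
  have hF : FF F K := hK.1
  set D := (poleDiv x : Divisor F K) with hDdef
  obtain ⟨N, hN⟩ := exists_delta_eq_genus_of_deg_ge hK
  set t := N.natAbs + e * m with ht
  have hval : ∀ P : Place F K, max 1 (P.1 x) ≤ exp (D P) := fun P => by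
    rw [hDdef, hF.poleDiv_apply]
    refine max_le (by rw [← exp_zero, exp_le_exp]; exact le_max_right _ _) ?_
    rcases eq_or_ne x 0 with rfl | hx0
    · rw [map_zero]; exact zero_le
    · rw [val_le_exp_iff P hx0]
      have := le_max_left (-P.ord x) 0
      omega
  have hmem : ∀ p : Fin (t + 1 - e * m) × Fin m, x ^ (p.1 : ℕ) * y ^ (p.2 : ℕ) ∈ L (t • D) := fun p P => by
    rw [map_mul, map_pow, map_pow]
    refine (mul_le_mul' (pow_le_pow_left₀ zero_le (le_max_right 1 (P.1 x)) _)
      (pow_le_pow_left₀ zero_le (val_root_le P x y hf he hy) _)).trans ?_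
    rw [← pow_mul, ← pow_add]
    refine (pow_le_pow_right₀ (le_max_left _ _) (?_ : _ ≤ t)).trans
      ((pow_le_pow_left₀ zero_le (hval P) _).trans_eq ?_)
    · have h2 : e * (p.2 : ℕ) ≤ e * m := Nat.mul_le_mul_left e p.2.isLt.le
      have := p.1.isLt
      omega
    · rw [← exp_nsmul, Finsupp.smul_apply]
  have hli' : LinearIndependent F
      (fun p : Fin (t + 1 - e * m) × Fin m => x ^ (p.1 : ℕ) * y ^ (p.2 : ℕ)) := by
    have h1 : LinearIndependent F (fun j : Fin (t + 1 - e * m) =>
        (⟨x, IntermediateField.mem_adjoin_simple_self F x⟩ : F⟮x⟯) ^ (j : ℕ)) := by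
      refine LinearIndependent.of_comp (Algebra.linearMap F⟮x⟯ K |>.restrictScalars F) ?_
      have h0 := linearIndependent_pow_of_transcendental hx (t + 1 - e * m)
      convert h0.comp (fun j : Fin (t + 1 - e * m) => j.castSucc) (Fin.castSucc_injective _) using 1
      funext j
      simp
    have h2 := linearIndependent_smul h1 hli
    convert h2 using 1
    funext p
    simp [IntermediateField.smul_def]
  have := hF.finite_L (t • D)
  have hcard := (LinearIndependent.of_comp (L (t • D)).subtype
    (v := fun p => (⟨_, hmem p⟩ : L (t • D))) hli').fintype_card_le_finrank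
  rw [Fintype.card_prod, Fintype.card_fin, Fintype.card_fin] at hcard
  have hdeg : (t • D).deg = (t : ℤ) * m := by
    rw [deg_nsmul, hDdef, hF.deg_poleDiv hx, hm]
  have hm0 : 0 < m := hm ▸ (by
    have := hF.finiteDimensional_adjoin hx
    exact Module.finrank_pos)
  have hd : N ≤ (t • D).deg := by
    rw [hdeg]
    have h2 : (t : ℤ) * 1 ≤ (t : ℤ) * m := mul_le_mul_of_nonneg_left (by omega) (by omega)
    omega
  have h3 := hN (t • D) hd
  rw [delta, hdeg] at h3
  have h4 : ((t + 1 - e * m : ℕ) : ℤ) * m ≤ ell (t • D) := by exact_mod_cast hcard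
  rw [Nat.cast_sub (by omega)] at h4
  push_cast at h4 ⊢
  have h5 : (genus F K : ℤ) ≤ (e : ℤ) * m * m + 1 := by
    have : (0:ℤ) ≤ m := by omega
    nlinarith
  exact_mod_cast h5

variable [Finite F]

theorem card_deg_one_le {h : F[X][Y]} (hK : IsFunctionField F K) {x y : K}
    (hx : Transcendental F x) (hy : h.eval₂ (Polynomial.aeval (R := F) x).toRingHom y = 0)
    (hh : h.Monic) :
    Nat.card {P : Place F K // P.deg = 1} ≤
      Module.finrank F⟮x⟯ K * (Nat.card {p : F × F // evp p.1 p.2 h = 0} + 1) := by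
  classical
  have hF : FF F K := hK.1
  set M := Module.finrank F⟮x⟯ K
  have hS : {P : Place F K | P.deg = 1}.Finite :=
    (hF.finite_deg_le 1).subset fun P hP => le_of_eq hP
  rw [show Nat.card {P : Place F K // P.deg = 1} = hS.toFinset.card from Nat.card_eq_card_finite_toFinset hS]
  have hres : ∀ P : Place F K, P.deg = 1 → ∀ z : K, P.1 z ≤ 1 → ∃ c : F, P.1 (z - algebraMap F K c) < 1 := by
    intro P hP z hz
    have hne : algebraMap F (IsLocalRing.ResidueField P.O) 1 ≠ 0 := by simp
    obtain ⟨c, hc⟩ := (finrank_eq_one_iff_of_nonzero' _ hne).mp hP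
      (IsLocalRing.residue P.O ⟨z, hz⟩)
    refine ⟨c, ?_⟩
    have h0 : IsLocalRing.residue P.O (⟨z, hz⟩ - algebraMap F P.O c) = 0 := by
      rw [map_sub, ← hc, map_one, sub_eq_zero]
      exact (Algebra.algebraMap_eq_smul_one c).symm
    rw [IsLocalRing.residue_eq_zero_iff] at h0
    exact (Valuation.mem_maximalIdeal_iff (v := P.1)).mp h0
  choose! res hres using hres
  -- places by their residues
  let pt : Place F K → Option (F × F) := fun P =>
    if P.1 x ≤ 1 then some (res P x, res P y) else none
  let T : Finset (Option (F × F)) := (Set.toFinite {p : F × F | evp p.1 p.2 h = 0}).toFinset.insertNone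
  have hTc : T.card = Nat.card {p : F × F // evp p.1 p.2 h = 0} + 1 := by
    rw [Finset.card_insertNone]
    exact congrArg (· + 1) (Nat.card_eq_card_finite_toFinset (Set.toFinite {p : F × F | evp p.1 p.2 h = 0})).symm
  have hyv : ∀ P : Place F K, P.1 x ≤ 1 → P.1 y ≤ 1 := fun P hP => by
    obtain ⟨e, he⟩ : ∃ e, ∀ i, (h.coeff i).natDegree ≤ e :=
      ⟨h.support.sup fun i => (h.coeff i).natDegree, fun i => by
        by_cases hi : i ∈ h.support
        · exact Finset.le_sup (f := fun i => (h.coeff i).natDegree) hi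
        · rw [notMem_support_iff.1 hi, natDegree_zero]; exact Nat.zero_le _⟩
    have := val_root_le P x y hh he hy
    rwa [max_eq_left hP, one_pow] at this
  have hmaps : ∀ P ∈ hS.toFinset, pt P ∈ T := by
    intro P hP
    rw [Set.Finite.mem_toFinset] at hP
    simp only [pt, T]
    split_ifs with hxP
    · rw [Finset.some_mem_insertNone, Set.Finite.mem_toFinset]
      show evp (res P x) (res P y) h = 0
      -- reduce the relation
      let xo : P.O := ⟨x, hxP⟩
      let yo : P.O := ⟨y, hyv P hxP⟩
      have key : ∀ z : P.O, IsLocalRing.residue P.O z = algebraMap F _ (res P (z : K)) := fun z => by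
        have hlt := hres P hP (z : K) z.2
        have h0 : IsLocalRing.residue P.O (z - algebraMap F P.O (res P (z : K))) = 0 := by
          rw [IsLocalRing.residue_eq_zero_iff]
          exact (Valuation.mem_maximalIdeal_iff (v := P.1)).mpr hlt
        rw [map_sub, sub_eq_zero] at h0
        exact h0
      have h1 : h.eval₂ (Polynomial.aeval (R := F) xo).toRingHom yo = 0 := by
        refine Subtype.val_injective ?_
        show (algebraMap P.O K) _ = 0
        rw [Polynomial.hom_eval₂]
        convert hy using 2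
        · refine Polynomial.ringHom_ext (fun a => ?_) ?_
          · simp [IsScalarTower.algebraMap_apply F P.O K]
          · simp [xo]
        · rfl
      have h2 := congrArg (IsLocalRing.residue P.O) h1
      rw [Polynomial.hom_eval₂, map_zero, key yo] at h2
      have h3 : ((IsLocalRing.residue P.O).comp (Polynomial.aeval (R := F) xo).toRingHom) =
          (algebraMap F (IsLocalRing.ResidueField P.O)).comp (Polynomial.evalRingHom (res P x)) := by
        refine Polynomial.ringHom_ext (fun a => ?_) ?_
        · simp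
          rfl
        · simp [key xo, xo]
      rw [h3, ← Polynomial.hom_eval₂, map_eq_zero_iff _ (RingHom.injective _)] at h2
      rw [evp_apply, ← Polynomial.eval₂_evalRingHom]
      exact h2
    · exact Finset.none_mem_insertNone
  rw [← hTc]
  refine Finset.card_le_mul_card_image_of_maps_to hmaps M (fun b _ => ?_)
  -- fibres
  rcases b with _ | ⟨c, d⟩
  · have hb := hF.sum_deg_mul_ord_le (x := x⁻¹) (fun ha => hx (by simpa using ha.inv))
      (hS.toFinset.filter fun P => pt P = none) fun P hP => by
        obtain ⟨-, hP2⟩ := Finset.mem_filter.1 hP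
        simp only [pt] at hP2
        split_ifs at hP2 with hxP
        rw [val_le_one_iff] at hxP
        rw [ord_inv]; omega
    rw [show F⟮x⁻¹⟯ = F⟮x⟯ from le_antisymm
      (IntermediateField.adjoin_simple_le_iff.mpr (inv_mem (IntermediateField.mem_adjoin_simple_self F x)))
      (IntermediateField.adjoin_simple_le_iff.mpr (by
        simpa using inv_mem (IntermediateField.mem_adjoin_simple_self F x⁻¹)))] at hb
    refine Nat.cast_le (α := ℤ).1 (le_trans ?_ hb)
    rw [Finset.card_eq_sum_ones, Nat.cast_sum]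
    refine Finset.sum_le_sum fun P hP => ?_
    obtain ⟨hP1, hP2⟩ := Finset.mem_filter.1 hP
    rw [Set.Finite.mem_toFinset] at hP1
    simp only [pt] at hP2
    split_ifs at hP2 with hxP
    rw [val_le_one_iff] at hxP
    rw [ord_inv, show (P.deg : ℤ) = 1 by exact_mod_cast hP1, mul_one]
    push_cast; omega
  · have hxc : Transcendental F (x - algebraMap F K c) := fun ha => hx (by
      simpa using ha.add (isAlgebraic_algebraMap c))
    have hb := hF.sum_deg_mul_ord_le hxc (hS.toFinset.filter fun P => pt P = some (c, d)) fun P hP => by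
      obtain ⟨hP1, hP2⟩ := Finset.mem_filter.1 hP
      rw [Set.Finite.mem_toFinset] at hP1
      simp only [pt] at hP2
      split_ifs at hP2 with hxP
      have := hres P hP1 x hxP
      have e0 : res P x = c := (Prod.ext_iff.1 (Option.some.inj hP2)).1
      rw [e0] at this
      have hne : x - algebraMap F K c ≠ 0 := fun e => hxc (e ▸ isAlgebraic_zero)
      rw [val_eq P hne, ← exp_zero, exp_lt_exp] at this
      omega
    have hadj : F⟮x - algebraMap F K c⟯ = F⟮x⟯ := by
      refine le_antisymm (IntermediateField.adjoin_simple_le_iff.mpr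
        (sub_mem (IntermediateField.mem_adjoin_simple_self F x) (algebraMap_mem _ c)))
        (IntermediateField.adjoin_simple_le_iff.mpr ?_)
      simpa using add_mem (IntermediateField.mem_adjoin_simple_self F (x - algebraMap F K c)) (algebraMap_mem _ c)
    rw [hadj] at hb
    refine Nat.cast_le (α := ℤ).1 (le_trans ?_ hb)
    rw [Finset.card_eq_sum_ones, Nat.cast_sum]
    refine Finset.sum_le_sum fun P hP => ?_
    obtain ⟨hP1, hP2⟩ := Finset.mem_filter.1 hP
    rw [Set.Finite.mem_toFinset] at hP1
    simp only [pt] at hP2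
    split_ifs at hP2 with hxP
    have := hres P hP1 x hxP
    have e0 : res P x = c := (Prod.ext_iff.1 (Option.some.inj hP2)).1
    rw [e0] at this
    have hne : x - algebraMap F K c ≠ 0 := fun e => hxc (e ▸ isAlgebraic_zero)
    rw [val_eq P hne, ← exp_zero, exp_lt_exp] at this
    rw [show (P.deg : ℤ) = 1 by exact_mod_cast hP1, mul_one]
    push_cast; omega

set_option maxHeartbeats 1000000 in
/-- Many rational zeros near a simple one. -/
theorem many_zeros {f : F[X][Y]} (hf : f.Monic) {e : ℕ} (he : ∀ i, (f.coeff i).natDegree ≤ e)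
    {t₀ y₀ : F} (h0 : evp t₀ y₀ f = 0) (h1 : evp t₀ y₀ (derivative f) ≠ 0) :
    (Nat.card F : ℝ) - 2 * (e * f.natDegree * f.natDegree + 1 : ℕ) * Real.sqrt (Nat.card F) ≤
      (f.natDegree : ℝ) * (Nat.card {p : F × F // evp p.1 p.2 f = 0} + 1 : ℕ) := by
  classical
  obtain ⟨h, hirr, hmon, hdvd, hh0, hh1⟩ := exists_factor hf h0 h1
  set hQ := h.map (algebraMap F[X] (RatFunc F)) with hhQ
  have : Fact (Irreducible hQ) := ⟨(hmon.irreducible_iff_irreducible_map_fraction_map (K := RatFunc F)).1 hirr⟩
  let K := AdjoinRoot hQ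
  have hmonQ : hQ.Monic := hmon.map _
  let pb := AdjoinRoot.powerBasis hmonQ.ne_zero
  have : FiniteDimensional (RatFunc F) K := pb.finite
  set x : K := algebraMap (RatFunc F) K RatFunc.X with hxdef
  set y : K := AdjoinRoot.root hQ
  have hxt : Transcendental F x := by
    obtain ⟨z, hz, -⟩ := ratFunc_ff F
    rw [transcendental_iff]
    intro p hp
    rw [hxdef, Polynomial.aeval_algebraMap_apply, RatFunc.aeval_X_left_eq_algebraMap,
      map_eq_zero_iff _ (RingHom.injective _), map_eq_zero_iff _ (RatFunc.algebraMap_injective F)] at hp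
    exact hp
  have hfr : Module.finrank F⟮x⟯ K = hQ.natDegree := by
    rw [finrank_adjoin_algebraMap, (show F⟮(RatFunc.X : RatFunc F)⟯ = ⊤ from ratFunc_adjoin_X F),
      IntermediateField.finrank_top, one_mul, pb.finrank, AdjoinRoot.powerBasis_dim]
  have hdeg0 : 0 < hQ.natDegree := Irreducible.natDegree_pos Fact.out
  have hFF : FF F K := ⟨x, hxt, Module.finite_of_finrank_pos (by omega)⟩
  have haev : (Polynomial.aeval (R := F) x).toRingHom =
      (algebraMap (RatFunc F) K).comp (algebraMap F[X] (RatFunc F)) := by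
    refine RingHom.ext fun p => ?_
    show Polynomial.aeval x p = _
    rw [hxdef, Polynomial.aeval_algebraMap_apply, RatFunc.aeval_X_left_eq_algebraMap]
    rfl
  have hyh : h.eval₂ (Polynomial.aeval (R := F) x).toRingHom y = 0 := by
    rw [haev, ← Polynomial.eval₂_map, ← hhQ]
    exact AdjoinRoot.eval₂_root hQ
  have hyf : f.eval₂ (Polynomial.aeval (R := F) x).toRingHom y = 0 := by
    obtain ⟨s, rfl⟩ := hdvd
    rw [eval₂_mul, hyh, zero_mul]
  -- constants
  have hK : IsFunctionField F K := by
    refine ⟨hFF, fun a ha => ?_⟩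
    have : IsScalarTower F F[X] K := IsScalarTower.of_algebraMap_eq fun r => by
      rw [IsScalarTower.algebraMap_apply F[X] (RatFunc F) K, IsScalarTower.algebraMap_apply F (RatFunc F) K,
        IsScalarTower.algebraMap_apply F F[X] (RatFunc F)]
    have hae : (Polynomial.aeval (R := F) x).toRingHom = algebraMap F[X] K := by
      rw [haev]; exact (IsScalarTower.algebraMap_eq F[X] (RatFunc F) K).symm
    have hyint : IsIntegral F[X] y := ⟨h, hmon, hae ▸ hyh⟩
    have hmin : minpoly F[X] y = h := by
      refine (Polynomial.map_injective _ (RatFunc.algebraMap_injective F) ?_)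
      rw [← minpoly.isIntegrallyClosed_eq_field_fractions' (RatFunc F) hyint]
      show minpoly (RatFunc F) (AdjoinRoot.root hQ) = _
      rw [AdjoinRoot.minpoly_root hmonQ.ne_zero, hmonQ.leadingCoeff, inv_one, map_one, mul_one]
    have hsepy : IsSeparable (RatFunc F) (AdjoinRoot.root hQ) := by
      unfold IsSeparable
      rw [AdjoinRoot.minpoly_root hmonQ.ne_zero, hmonQ.leadingCoeff, inv_one, map_one, mul_one]
      refine (Polynomial.separable_iff_derivative_ne_zero Fact.out).2 fun hd => hh1 ?_
      rw [hhQ, derivative_map, Polynomial.map_eq_zero_iff (RatFunc.algebraMap_injective F)] at hd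
      rw [hd, map_zero]
    have hadjoin : Algebra.adjoin (RatFunc F) {y} = ⊤ := AdjoinRoot.adjoinRoot_eq_top
    have : Algebra.IsSeparable (RatFunc F) K := by
      have h1 : IntermediateField.adjoin (RatFunc F) ({y} : Set K) = ⊤ :=
        IntermediateField.toSubalgebra_injective (by
          rw [IntermediateField.adjoin_simple_toSubalgebra_of_isAlgebraic (Algebra.IsAlgebraic.isAlgebraic y),
            hadjoin, IntermediateField.top_toSubalgebra])
      have h2 : Algebra.IsSeparable (RatFunc F) (IntermediateField.adjoin (RatFunc F) ({y} : Set K)) :=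
        (IntermediateField.isSeparable_adjoin_simple_iff_isSeparable _ _).2 hsepy
      rw [h1] at h2
      exact Algebra.IsSeparable.of_algHom _ _ IntermediateField.topEquiv.symm.toAlgHom
    obtain ⟨G, hG⟩ := exists_derivative_mul_eq (A := F[X]) (L := RatFunc F) hyint hadjoin
      (ha.isIntegral.tower_top (A := F[X]))
    rw [hmin] at hG
    by_contra hna
    set c := evp t₀ y₀ G / evp t₀ y₀ (derivative h) with hc
    set b := a - algebraMap F K c with hb
    have hb0 : b ≠ 0 := fun e => hna ⟨c, (sub_eq_zero.1 e).symm⟩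
    have hbint : IsIntegral F b := ha.isIntegral.sub isIntegral_algebraMap
    obtain ⟨G'', hG''⟩ := exists_derivative_mul_eq (A := F[X]) (L := RatFunc F) hyint hadjoin
      (hbint.isAlgebraic.inv.isIntegral.tower_top (A := F[X]))
    rw [hmin] at hG''
    set G' := G - C (C c) * derivative h with hG'
    have e1 : h.map (RingHom.id _) = h := Polynomial.map_id
    have hprod : Polynomial.aeval y (derivative h * derivative h - G' * G'') = 0 := by
      rw [map_sub, map_mul, map_mul, hG'', hG', map_sub, map_mul, hG, Polynomial.aeval_C]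
      have hbb : b * b⁻¹ = 1 := mul_inv_cancel₀ hb0
      rw [hb] at hbb ⊢
      rw [IsScalarTower.algebraMap_apply F F[X] K c, ← Polynomial.C_eq_algebraMap] at hbb ⊢
      linear_combination (norm := ring) -(Polynomial.aeval y (derivative h)) * (Polynomial.aeval y (derivative h)) * hbb
    have : FaithfulSMul F[X] K := (faithfulSMul_iff_algebraMap_injective _ _).2 (by
      rw [IsScalarTower.algebraMap_eq F[X] (RatFunc F) K]
      exact (algebraMap (RatFunc F) K).injective.comp (RatFunc.algebraMap_injective F))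
    have hd0 := minpoly.isIntegrallyClosed_dvd hyint hprod
    rw [hmin] at hd0
    have hdvd2 : h ∣ derivative h * derivative h - G' * G'' := hd0
    obtain ⟨s, hs⟩ := hdvd2
    exact hh1 (evp_derivative_eq_zero hh0 hh1 hs hc)
  have hli : LinearIndependent F⟮x⟯ (fun i : Fin hQ.natDegree => y ^ (i : ℕ)) := by
    have hb : LinearIndependent (RatFunc F) (fun i : Fin hQ.natDegree => y ^ (i : ℕ)) := by
      have := pb.basis.linearIndependent
      rw [pb.coe_basis] at this
      exact this
    have hsub : ∀ z : F⟮x⟯, ∃ w : RatFunc F, algebraMap (RatFunc F) K w = z := by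
      rintro ⟨z, hz⟩
      have hmap : (F⟮(RatFunc.X : RatFunc F)⟯).map (IsScalarTower.toAlgHom F (RatFunc F) K) = F⟮x⟯ := by
        rw [IntermediateField.adjoin_map]; simp [hxdef]
      rw [← hmap] at hz
      obtain ⟨w, -, rfl⟩ := hz
      exact ⟨w, rfl⟩
    choose w hw using hsub
    rw [Fintype.linearIndependent_iff] at hb ⊢
    intro g hg i
    have := hb (fun j => w (g j)) (by
      rw [← hg]
      exact Finset.sum_congr rfl fun j _ => by rw [Algebra.smul_def, hw, IntermediateField.smul_def, smul_eq_mul]) i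
    have h3 := hw (g i)
    rw [this, map_zero] at h3
    exact Subtype.ext h3.symm
  have hg := genus_le_plane hK hxt hf he hyf hli hfr
  have hdle : hQ.natDegree ≤ f.natDegree := by
    rw [hhQ, hmon.natDegree_map]
    exact natDegree_le_of_dvd hdvd hf.ne_zero
  have hg' : genus F K ≤ e * f.natDegree * f.natDegree + 1 :=
    hg.trans (by gcongr)
  have hN := card_deg_one_le hK hxt hyh hmon
  rw [hfr] at hN
  have hW := abs_le.1 (hasse_weil hK)
  have hle : Nat.card {p : F × F // evp p.1 p.2 h = 0} ≤ Nat.card {p : F × F // evp p.1 p.2 f = 0} :=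
    Nat.card_le_card_of_injective (fun p => ⟨p.1, by
      obtain ⟨s, rfl⟩ := hdvd
      rw [map_mul, p.2, zero_mul]⟩) fun a b hab => Subtype.ext (congrArg Subtype.val hab :)
  have hN2 : Nat.card {P : Place F K // P.deg = 1} ≤
      f.natDegree * (Nat.card {p : F × F // evp p.1 p.2 f = 0} + 1) :=
    hN.trans (Nat.mul_le_mul hdle (by omega))
  have hN3 : (Nat.card {P : Place F K // P.deg = 1} : ℝ) ≤
      ((f.natDegree * (Nat.card {p : F × F // evp p.1 p.2 f = 0} + 1) : ℕ) : ℝ) := Nat.cast_le.2 hN2
  have hgR : (genus F K : ℝ) ≤ ((e * f.natDegree * f.natDegree + 1 : ℕ) : ℝ) := Nat.cast_le.2 hg'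
  rw [Nat.cast_mul] at hN3
  have hs := mul_le_mul_of_nonneg_right hgR (Real.sqrt_nonneg (Nat.card F : ℝ))
  linarith [hW.1]

end Groth.Agent.Zeta30
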