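import Groth.Agent.Zeta30.RingBig
import Groth.Agent.TopDim50.Basic
import Mathlib.AlgebraicGeometry.Properties

/-! The abscissa of convergence of the zeta function of an arithmetic scheme is its dimension. -/

set_option autoImplicit false
set_option linter.style.haveILetI false

universe u

open CategoryTheory AlgebraicGeometry

namespace Groth.Agent.Zeta30

theorem exists_prime_dim_le {A : Type u} [CommRing A] {r : ℕ} (hr : (r : WithBot ℕ∞) ≤ ringKrullDim A) :
    ∃ P : Ideal A, P.IsPrime ∧ (r : WithBot ℕ∞) ≤ ringKrullDim (A ⧸ P) := by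
  obtain ⟨l, hl⟩ := Order.le_krullDim_iff.1 hr
  refine ⟨l.head.asIdeal, l.head.isPrime, ?_⟩
  rw [ringKrullDim_quotient]
  refine Order.le_krullDim_iff.2 ⟨⟨l.length, fun i => ⟨l i, ?_⟩, fun i => l.step i⟩, hl⟩
  exact (PrimeSpectrum.mem_zeroLocus _ _).2 (PrimeSpectrum.asIdeal_le_asIdeal _ _ |>.2 (l.head_le i))

theorem exists_affineOpen_dim_le {X : Scheme.{u}} {r : ℕ} (hr1 : 1 ≤ r)
    (hr : (r : WithBot ℕ∞) ≤ topologicalKrullDim X) :
    ∃ U : X.affineOpens, (r : WithBot ℕ∞) ≤ ringKrullDim Γ(X, U.1) := by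
  by_contra! h
  have hcov : ⋃ U : X.affineOpens, ((U.1 : X.Opens) : Set X) = Set.univ := by
    have := congrArg (fun V : X.Opens => (V : Set X)) (iSup_affineOpens_eq_top X)
    simpa using this
  rw [TopDim50.dim_eq_iSup_of_open_cover (fun U : X.affineOpens => ((U.1 : X.Opens) : Set X))
    (fun U => U.1.isOpen) hcov] at hr
  have hle : ∀ U : X.affineOpens, topologicalKrullDim ((U.1 : X.Opens) : Set X) ≤ ((r - 1 : ℕ) : WithBot ℕ∞) := by
    intro U
    have e : (Spec Γ(X, U.1) : Scheme) ≃ₜ ((U.1 : X.Opens) : Set X) :=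
      (Scheme.homeoOfIso U.2.isoSpec).symm
    rw [← IsHomeomorph.topologicalKrullDim_eq e e.isHomeomorph]
    have h1 : topologicalKrullDim (Spec Γ(X, U.1)) < (r : WithBot ℕ∞) :=
      (le_of_eq (PrimeSpectrum.topologicalKrullDim_eq_ringKrullDim _)).trans_lt (h U)
    refine le_of_not_gt fun h2 => ?_
    generalize topologicalKrullDim (Spec Γ(X, U.1)) = d at h1 h2
    cases d with
    | bot => exact absurd h2 (not_lt_bot)
    | coe d =>
      cases d with
      | top => exact absurd (le_top : ((r : ℕ∞)) ≤ ⊤) (not_le.2 (by exact_mod_cast h1))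
      | coe d =>
        have h1' : d < r := by exact_mod_cast h1
        have h2' : r - 1 < d := ENat.coe_lt_coe.1 (WithBot.coe_lt_coe.1 h2)
        omega
  have h3 : r ≤ r - 1 := by exact_mod_cast hr.trans (iSup_le hle)
  omega

variable {X : Scheme.{u}} (f : X ⟶ Spec (CommRingCat.of (ULift.{u} ℤ))) [LocallyOfFiniteType f]
  [QuasiCompact f]

include f in
/-- The norms of the closed points are not summable below the dimension. -/
theorem not_summable_nrm {r : ℕ} (hr1 : 1 ≤ r) (hr : (r : WithBot ℕ∞) ≤ topologicalKrullDim X) {σ : ℝ}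
    (hσ : σ < r) : ¬ Summable fun x : CP X => (nrm X x : ℝ) ^ (-σ) := by
  intro hs
  obtain ⟨U, hU⟩ := exists_affineOpen_dim_le hr1 hr
  have hUa : IsAffineOpen U.1 := U.2
  set A : Type u := Γ(X, U.1)
  have hA : Algebra.FiniteType ℤ A := by
    let φ := Spec.preimage (hUa.fromSpec ≫ f)
    have h : LocallyOfFiniteType (Spec.map φ) := by rw [Spec.map_preimage]; infer_instance
    rw [HasRingHomProperty.Spec_iff (P := @LocallyOfFiniteType)] at h
    have h2 : (φ.hom.comp (ULift.ringEquiv.symm.toRingHom : ℤ →+* ULift.{u} ℤ)).FiniteType :=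
      RingHom.FiniteType.comp h (RingHom.FiniteType.of_surjective _ ULift.ringEquiv.symm.surjective)
    rwa [Subsingleton.elim (φ.hom.comp _) (algebraMap ℤ A), RingHom.finiteType_algebraMap] at h2
  obtain ⟨P, hP, hdim⟩ := exists_prime_dim_le hU
  have : @Algebra.FiniteType ℤ (A ⧸ P) _ _ (Ring.toIntAlgebra _) :=
    @finiteType_int_of_finiteType A (A ⧸ P) _ _ _ _ _ hA (Ring.toIntAlgebra _)
  have hbig := big_of_domain (A ⧸ P) hr1 hdim
  have := jacobsonSpace_of_arith f
  obtain ⟨h, hinj, hn⟩ := exists_maxId_embedding (X := X) (A := A) hUa.fromSpec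
  have hmax : ∀ m : MaxId (A ⧸ P), (m.1.comap (Ideal.Quotient.mk P)).IsMaximal := fun m =>
    have := m.2
    Ideal.comap_isMaximal_of_surjective _ Ideal.Quotient.mk_surjective
  let ψ : MaxId (A ⧸ P) → MaxId A := fun m => ⟨_, hmax m⟩
  have hψ : Function.Injective ψ := fun a b hab => Subtype.ext
    (Ideal.comap_injective_of_surjective _ Ideal.Quotient.mk_surjective (congrArg Subtype.val hab))
  have hψn : ∀ m, mnorm (ψ m) = mnorm m := fun m =>
    (Nat.card_congr ((Ideal.quotEquivOfEq (by
      rw [← RingHom.comap_ker, Ideal.mk_ker])).trans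
        (RingHom.quotientKerEquivOfSurjective (f := (Ideal.Quotient.mk m.1).comp (Ideal.Quotient.mk P))
          (Ideal.Quotient.mk_surjective.comp Ideal.Quotient.mk_surjective))).toEquiv :)
  refine hbig 1 one_ne_zero σ hσ ?_
  have hall : Summable fun m : MaxId (A ⧸ P) => (mnorm m : ℝ) ^ (-σ) :=
    ((hs.comp_injective hinj).comp_injective hψ).congr fun m => by
      show (nrm X (h (ψ m)) : ℝ) ^ (-σ) = _
      rw [hn, hψn]
  exact hall.comp_injective Subtype.val_injective

include f in
theorem summable_cycNorm_of_LSeriesSummable {r : ℕ} (hr : topologicalKrullDim X ≤ r) {σ : ℝ}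
    (h : LSeriesSummable (Zeta.arithCoeff X) (σ : ℂ)) :
    Summable fun α : CP X →₀ ℕ => (cycNorm (nrm X) α : ℝ) ^ (-σ) := by
  classical
  have hN := two_le_nrm f
  have hfin : ∀ n, Finite {α : CP X →₀ ℕ // cycNorm (nrm X) α = n} :=
    (LSeries_cyc (nrm X) hN (s := ((r + 1 : ℝ) : ℂ)) (by simp; positivity)
      (by simpa using summable_nrm f r hr (lt_add_one (r : ℝ)))).1
  rw [← (Equiv.sigmaFiberEquiv (cycNorm (nrm X))).summable_iff]
  refine (summable_sigma_of_nonneg fun x => Real.rpow_nonneg (Nat.cast_nonneg _) _).2 ⟨fun n => ?_, ?_⟩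
  · have := hfin n
    exact Summable.of_finite
  · refine h.norm.congr fun n => ?_
    have := hfin n
    have := Fintype.ofFinite {α : CP X →₀ ℕ // cycNorm (nrm X) α = n}
    rw [arithCoeff_eq, tsum_fintype, Finset.sum_congr rfl fun α _ => show _ = (n : ℝ) ^ (-σ) by
        simp only [Function.comp_apply, Equiv.sigmaFiberEquiv_apply]; rw [α.2],
      Finset.sum_const, Finset.card_univ, nsmul_eq_mul, ← Nat.card_eq_fintype_card]
    rcases Nat.eq_zero_or_pos n with rfl | hn
    · have : IsEmpty {α : CP X →₀ ℕ // cycNorm (nrm X) α = 0} :=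
        ⟨fun α => (cycNorm_pos _ hN α.1).ne' α.2⟩
      simp
    · rw [LSeries.norm_term_eq, if_neg hn.ne', Complex.norm_natCast, Complex.ofReal_re,
        Real.rpow_neg (Nat.cast_nonneg _), div_eq_mul_inv]
      rfl

include f in
theorem abscissa_eq (r : ℕ) (hr : topologicalKrullDim X = r) :
    LSeries.abscissaOfAbsConv (Zeta.arithCoeff X) = (r : ℝ) := by
  classical
  refine le_antisymm (arith_le f r hr.le).1 (le_of_not_gt fun hlt => ?_)
  obtain ⟨σ, hσ1, hσ2⟩ := EReal.exists_between_coe_real hlt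
  have hσr : σ < r := by exact_mod_cast hσ2
  have hs := summable_cycNorm_of_LSeriesSummable f hr.le
    (LSeriesSummable_of_abscissaOfAbsConv_lt_re (s := (σ : ℂ)) (by simpa using hσ1))
  have hsingle : ∀ (x : CP X) (m : ℕ), cycNorm (nrm X) (Finsupp.single x m) = nrm X x ^ m := fun x m =>
    Finsupp.prod_single_index (pow_zero _)
  rcases Nat.eq_zero_or_pos r with rfl | hr1
  · have hne : Nonempty X := by
      by_contra hX
      rw [not_nonempty_iff] at hX
      have : IsEmpty (TopologicalSpace.IrreducibleCloseds X) :=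
        ⟨fun Z => hX.false Z.isIrreducible.nonempty.some⟩
      rw [topologicalKrullDim, Order.krullDim_eq_bot] at hr
      exact WithBot.bot_ne_coe hr
    have : CompactSpace X := QuasiCompact.compactSpace_of_compactSpace f
    obtain ⟨x, -, hx⟩ := IsClosed.exists_closed_singleton (S := (Set.univ : Set X)) isClosed_univ Set.univ_nonempty
    let x₀ : CP X := ⟨x, hx⟩
    have h1 : Summable fun m : ℕ => ((nrm X x₀ : ℝ) ^ (-σ)) ^ m := by
      refine (hs.comp_injective (Finsupp.single_injective x₀)).congr fun m => ?_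
      show (cycNorm (nrm X) (Finsupp.single x₀ m) : ℝ) ^ (-σ) = _
      rw [hsingle, Nat.cast_pow, ← Real.rpow_natCast, ← Real.rpow_natCast, ← Real.rpow_mul (Nat.cast_nonneg _),
        ← Real.rpow_mul (Nat.cast_nonneg _), mul_comm]
    rw [summable_geometric_iff_norm_lt_one, Real.norm_of_nonneg (Real.rpow_nonneg (Nat.cast_nonneg _) _)] at h1
    refine absurd h1 (not_lt.2 (Real.one_le_rpow ?_ (by simpa using hσr.le)))
    exact_mod_cast le_trans one_le_two (two_le_nrm f x₀)
  · refine not_summable_nrm f hr1 hr.ge hσr ((hs.comp_injective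
      (Finsupp.single_left_injective (one_ne_zero (α := ℕ)))).congr fun x => ?_)
    show (cycNorm (nrm X) (Finsupp.single x 1) : ℝ) ^ (-σ) = _
    rw [hsingle, pow_one]

end Groth.Agent.Zeta30
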