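import Groth.Agent.Zeta30.Big
import Mathlib.FieldTheory.Finite.Extension
import Mathlib.Analysis.SpecificLimits.Normed

/-! The base of the induction over a finite field. -/

set_option autoImplicit false
set_option linter.style.haveILetI false

universe u

open Polynomial

namespace Groth.Agent.Zeta30

set_option maxHeartbeats 800000 in
set_option synthInstance.maxHeartbeats 100000 in
theorem bigOver_polynomial_finite (k : Type u) [Field k] [Finite k] : BigOver k[X] 1 := by
  classical
  intro B _ _ _ _ _ hsep g hg σ hσ hsum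
  obtain ⟨W, M, c, Q₀, hWfg, hc, -, hcore⟩ := exists_core hsep hg
  set Ω := SeparableClosure (FractionRing k)
  have : Algebra.IsAlgebraic k Ω := ⟨fun x =>
    (IsFractionRing.isAlgebraic_iff k (FractionRing k) Ω).2 (Algebra.IsAlgebraic.isAlgebraic x)⟩
  have : Algebra.FiniteType k W := ⟨(Subalgebra.fg_top W).2 hWfg⟩
  have : Algebra.IsIntegral k W := ⟨fun w => (isIntegral_algHom_iff W.val Subtype.val_injective).1
    (Algebra.IsAlgebraic.isAlgebraic (R := k) (W.val w)).isIntegral⟩
  have : Module.Finite k W := Algebra.IsIntegral.finite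
  have : Finite W := Module.finite_of_finite k
  letI : Field W := (Finite.isField_of_domain W).toField
  set Q := Nat.card W with hQdef
  have hQ2 : 2 ≤ Q := Finite.one_lt_card
  obtain ⟨p, hp⟩ := CharP.exists W
  have := Fact.mk (CharP.char_is_prime W p)
  set e := Module.finrank k W with he
  set σ' := max σ (0 : ℝ) with hσ'
  have hσ1 : σ' < 1 := max_lt (by exact_mod_cast hσ) one_pos
  have hfinB : Algebra.FiniteType ℤ B := by
    have : Algebra.FiniteType ℤ k := by
      have : Module.Finite ℤ k := Module.Finite.of_finite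
      infer_instance
    have : Algebra.FiniteType ℤ k[X] := finiteType_int_of_finiteType k k[X]
    exact finiteType_int_of_finiteType k[X] B
  have hsum' := summable_mono_exp (fun m : {m : MaxId B // g ∉ m.1} => mnorm m.1)
    (fun m => le_trans one_le_two (two_le_mnorm m.1)) (le_max_left σ 0) hsum
  set T := ∑' m : {m : MaxId B // g ∉ m.1}, (mnorm m.1 : ℝ) ^ (-σ')
  set r : ℝ := (Q : ℝ) ^ (1 - σ') with hr
  have hr1 : 1 < r := Real.one_lt_rpow (by exact_mod_cast hQ2) (by linarith)
  have key : ∀ j : ℕ, Q₀ ≤ j → 1 ≤ j → c * r ^ j ≤ (j : ℝ) * e * T := by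
    intro j hjQ hj
    have : NeZero j := ⟨by omega⟩
    let E := ULift.{u} (FiniteField.Extension W p j)
    letI : Field E := inferInstanceAs (Field (ULift.{u} (FiniteField.Extension W p j)))
    have : Finite E := inferInstanceAs (Finite (ULift.{u} (FiniteField.Extension W p j)))
    let χ : W →+* E := (ULift.ringEquiv.symm.toRingHom).comp (algebraMap W (FiniteField.Extension W p j))
    have hEcard : Nat.card E = Q ^ j := by
      rw [Nat.card_congr Equiv.ulift, FiniteField.natCard_extension]
    letI : Algebra k E := (χ.comp (algebraMap k W)).toAlgebra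
    letI : Algebra W E := χ.toAlgebra
    have : IsScalarTower k W E := IsScalarTower.of_algebraMap_eq' rfl
    have hdimE : Module.finrank k E = e * j := by
      have : Module.Finite k E := Module.Finite.of_finite
      refine Nat.pow_right_injective (Finite.one_lt_card : 2 ≤ Nat.card k) ?_
      show Nat.card k ^ Module.finrank k E = Nat.card k ^ (e * j)
      rw [← Module.natCard_eq_pow_finrank, hEcard, pow_mul, he, ← Module.natCard_eq_pow_finrank]
    have hQj : Q₀ ≤ Nat.card E := by
      rw [hEcard]; exact hjQ.trans (Nat.lt_pow_self hQ2).le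
    have h := hcore E χ hQj
    let Hom := {ψ : B →+* E // ψ.comp ((algebraMap k[X] B).comp C) = χ.comp (algebraMap k W) ∧ ψ g ≠ 0}
    have hmax : ∀ ψ : Hom, (RingHom.ker ψ.1).IsMaximal := fun ψ => by
      have : Finite (B ⧸ RingHom.ker ψ.1) := Finite.of_injective _ (RingHom.kerLift_injective ψ.1)
      have : (RingHom.ker ψ.1).IsPrime := RingHom.ker_isPrime _
      exact Ideal.Quotient.maximal_of_isField _ (Finite.isField_of_domain _)
    have : Finite Hom := Nat.finite_of_card_ne_zero fun h0 => by
      rw [show Nat.card {ψ : B →+* E // ψ.comp ((algebraMap k[X] B).comp C) = χ.comp (algebraMap k W) ∧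
        ψ g ≠ 0} = 0 from h0, Nat.cast_zero] at h
      exact absurd h (not_le.2 (mul_pos hc (Nat.cast_pos.2 Nat.card_pos)))
    have := Fintype.ofFinite Hom
    let km : Hom → {m : MaxId B // g ∉ m.1} := fun ψ => ⟨⟨RingHom.ker ψ.1, hmax ψ⟩, ψ.2.2⟩
    have hnorm : ∀ ψ : Hom, (Q : ℝ) ^ ((j : ℝ) * -σ') ≤ (mnorm (km ψ).1 : ℝ) ^ (-σ') := fun ψ => by
      rw [Real.rpow_natCast_mul (Nat.cast_nonneg _)]
      refine Real.rpow_le_rpow_of_nonpos
        (by exact_mod_cast lt_of_lt_of_le two_pos (two_le_mnorm (km ψ).1)) ?_ (neg_nonpos.2 (le_max_right _ _))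
      have hle : mnorm (km ψ).1 ≤ Nat.card E := Nat.card_le_card_of_injective _ (RingHom.kerLift_injective ψ.1)
      rw [hEcard] at hle
      exact_mod_cast hle
    have hfib : ∀ m, (Finset.univ.filter fun ψ => km ψ = m).card ≤ e * j := by
      intro m
      rw [← Nat.card_eq_finsetCard]
      have := m.1.2
      letI := Ideal.Quotient.field m.1.1
      have := finite_quot B m.1
      letI : Algebra k (B ⧸ m.1.1) :=
        ((Ideal.Quotient.mk m.1.1).comp ((algebraMap k[X] B).comp C)).toAlgebra
      have : Module.Finite k (B ⧸ m.1.1) := Module.Finite.of_finite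
      have hker : ∀ ψ : {ψ // ψ ∈ Finset.univ.filter fun ψ => km ψ = m}, RingHom.ker ψ.1.1 = m.1.1 :=
        fun ψ => congrArg (fun q : {m : MaxId B // g ∉ m.1} => q.1.1) (Finset.mem_filter.1 ψ.2).2
      let toAlg : {ψ // ψ ∈ Finset.univ.filter fun ψ => km ψ = m} → ((B ⧸ m.1.1) →ₐ[k] E) := fun ψ =>
        { Ideal.Quotient.lift m.1.1 ψ.1.1 (fun a ha => by rwa [← RingHom.mem_ker, hker ψ]) with
          commutes' := fun a => DFunLike.congr_fun ψ.1.2.1 a }
      have hinj : Function.Injective toAlg := fun a b hab => Subtype.ext (Subtype.ext (RingHom.ext fun x =>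
        (DFunLike.congr_fun hab (Ideal.Quotient.mk m.1.1 x) :)))
      by_cases hne : Nonempty ((B ⧸ m.1.1) →ₐ[k] E)
      · have hd := FiniteField.nonempty_algHom_iff_finrank_dvd.1 hne
        have : Finite ((B ⧸ m.1.1) →ₐ[k] E) :=
          Finite.of_injective (fun a => (a : B ⧸ m.1.1 → E)) DFunLike.coe_injective
        refine (Nat.card_le_card_of_injective toAlg hinj).trans ?_
        rw [FiniteField.natCard_algHom_of_finrank_dvd hd, ← hdimE]
        have : Module.Finite k E := Module.Finite.of_finite
        exact Nat.le_of_dvd Module.finrank_pos hd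
      · have : IsEmpty {ψ // ψ ∈ Finset.univ.filter fun ψ => km ψ = m} := ⟨fun ψ => hne ⟨toAlg ψ⟩⟩
        rw [Nat.card_of_isEmpty]
        exact Nat.zero_le _
    have hcount : Fintype.card Hom ≤ e * j * (Finset.univ.image km).card :=
      Finset.card_le_mul_card_image _ _ fun m _ => hfib m
    have hT : ((Finset.univ.image km).card : ℝ) * (Q : ℝ) ^ ((j : ℝ) * -σ') ≤ T := by
      refine le_trans ?_ (hsum'.sum_le_tsum (Finset.univ.image km) fun m _ => Real.rpow_nonneg (Nat.cast_nonneg _) _)
      rw [← nsmul_eq_mul]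
      refine Finset.card_nsmul_le_sum _ _ _ fun m hm => ?_
      obtain ⟨ψ, -, rfl⟩ := Finset.mem_image.1 hm
      exact hnorm ψ
    have hQ0 : (0 : ℝ) < Q := by exact_mod_cast lt_of_lt_of_le two_pos hQ2
    calc c * r ^ j = c * (Q : ℝ) ^ j * (Q : ℝ) ^ ((j : ℝ) * -σ') := by
          rw [hr, ← Real.rpow_natCast, ← Real.rpow_mul hQ0.le, mul_assoc, ← Real.rpow_natCast (Q : ℝ) j,
            ← Real.rpow_add hQ0]
          ring_nf
      _ ≤ (Nat.card Hom : ℝ) * (Q : ℝ) ^ ((j : ℝ) * -σ') := by
          refine mul_le_mul_of_nonneg_right ?_ (Real.rpow_nonneg hQ0.le _)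
          have h' := h
          rw [hEcard, Nat.cast_pow] at h'
          exact h'
      _ ≤ ((e * j : ℕ) : ℝ) * ((Finset.univ.image km).card : ℝ) * (Q : ℝ) ^ ((j : ℝ) * -σ') := by
          refine mul_le_mul_of_nonneg_right ?_ (Real.rpow_nonneg hQ0.le _)
          rw [Nat.card_eq_fintype_card, ← Nat.cast_mul]
          exact Nat.cast_le.2 hcount
      _ ≤ ((e * j : ℕ) : ℝ) * T := by
          rw [mul_assoc]
          exact mul_le_mul_of_nonneg_left hT (Nat.cast_nonneg _)
      _ = (j : ℝ) * e * T := by push_cast; ring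
  have hlim := (tendsto_pow_const_div_const_pow_of_one_lt 1 hr1).const_mul ((e : ℝ) * T)
  rw [mul_zero] at hlim
  obtain ⟨N, hN⟩ := Filter.eventually_atTop.1 (hlim.eventually_lt_const hc)
  set j := max N (max Q₀ 1)
  have h1 := key j (by omega) (by omega)
  have h2 := hN j (le_max_left _ _)
  rw [pow_one, mul_div_assoc', div_lt_iff₀ (pow_pos (zero_lt_one.trans hr1) _)] at h2
  linarith

end Groth.Agent.Zeta30
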