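import Groth.Agent.Zeta30.Big
import Mathlib.NumberTheory.NumberField.Ideal.Asymptotics
import Mathlib.NumberTheory.NumberField.Units.Regulator

/-! The base of the induction over the integers. -/

set_option autoImplicit false
set_option linter.style.haveILetI false

universe u

open Polynomial NumberField

namespace Groth.Agent.Zeta30

set_option maxHeartbeats 800000 in
theorem not_summable_maxId (K : Type u) [Field K] [NumberField K] {σ : ℝ} (hσ0 : 0 < σ) (hσ : σ < 1) :
    ¬ Summable fun P : MaxId (𝓞 K) => (mnorm P : ℝ) ^ (-σ) := by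
  classical
  intro hs
  have : Algebra.FiniteType ℤ (𝓞 K) := inferInstance
  set N : MaxId (𝓞 K) → ℕ := fun P => mnorm P with hNdef
  have hN : ∀ P, 2 ≤ N P := fun P => two_le_mnorm P
  have hρ : (2 : ℝ) ^ (-σ) < 1 := Real.rpow_lt_one_of_one_lt_of_neg one_lt_two (by linarith)
  let z : MaxId (𝓞 K) → ℂ := fun P => (N P : ℂ) ^ (-(σ : ℂ))
  have hnorm : ∀ P, ‖z P‖ = (N P : ℝ) ^ (-σ) := fun P => by
    simp [z, Complex.norm_natCast_cpow_of_pos (by linarith [hN P] : 0 < N P)]
  have hF := summable_norm_prod z hρ (fun P => by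
    rw [hnorm]
    exact Real.rpow_le_rpow_of_nonpos two_pos (by exact_mod_cast hN P) (by linarith)) (by simpa [hnorm, N] using hs)
  simp only [z] at hF
  have hterm : ∀ α : MaxId (𝓞 K) →₀ ℕ,
      ‖α.prod fun P m => ((N P : ℂ) ^ (-(σ : ℂ))) ^ m‖ = (cycNorm N α : ℝ) ^ (-σ) := fun α => by
    rw [prod_cpow, Complex.norm_natCast_cpow_of_pos (cycNorm_pos N hN α)]
    simp
  simp only [hterm] at hF
  set T := ∑' α : MaxId (𝓞 K) →₀ ℕ, (cycNorm N α : ℝ) ^ (-σ)
  let I : (MaxId (𝓞 K) →₀ ℕ) → Ideal (𝓞 K) := fun α => α.prod fun P m => P.1 ^ m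
  have hI : ∀ α, Ideal.absNorm (I α) = cycNorm N α := fun α => by
    show Ideal.absNorm (α.prod fun P m => P.1 ^ m) = _
    rw [map_finsuppProd]
    refine Finsupp.prod_congr fun P _ => ?_
    rw [map_pow]
    congr 1
  have hsurj : ∀ J : Ideal (𝓞 K), J ≠ ⊥ → ∃ α, I α = J := by
    intro J hJ
    have hmax : ∀ P ∈ UniqueFactorizationMonoid.normalizedFactors J, P.IsMaximal := fun P hP => by
      have hp := UniqueFactorizationMonoid.prime_of_normalized_factor P hP
      exact (Ideal.isPrime_of_prime hp).isMaximal hp.ne_zero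
    let ms : Multiset (MaxId (𝓞 K)) := (UniqueFactorizationMonoid.normalizedFactors J).pmap (fun P h => ⟨P, h⟩) hmax
    refine ⟨ms.toFinsupp, ?_⟩
    show (ms.toFinsupp.prod fun P m => P.1 ^ m) = J
    rw [Finsupp.prod, Multiset.toFinsupp_support]
    simp only [Multiset.toFinsupp_apply]
    rw [← Finset.prod_multiset_map_count]
    simp only [ms, Multiset.map_pmap, Multiset.pmap_eq_map, Multiset.map_id']
    exact Ideal.prod_normalizedFactors_eq_self hJ
  have hbound : ∀ x : ℝ, 1 ≤ x → (Nat.card {J : Ideal (𝓞 K) // Ideal.absNorm J ≤ x} : ℝ) ≤ 1 + T * x ^ σ := by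
    intro x hx
    have hfin : Finite {J : Ideal (𝓞 K) // Ideal.absNorm J ≤ x} := by
      refine Set.Finite.to_subtype ((Ideal.finite_setOf_absNorm_le (S := 𝓞 K) ⌊x⌋₊).subset fun J hJ => ?_)
      exact Nat.le_floor hJ
    have := Fintype.ofFinite {J : Ideal (𝓞 K) // Ideal.absNorm J ≤ x}
    choose! sec hsec using hsurj
    let u : Finset {J : Ideal (𝓞 K) // Ideal.absNorm J ≤ x} := Finset.univ.filter fun J => J.1 ≠ ⊥
    have hcard : (Fintype.card {J : Ideal (𝓞 K) // Ideal.absNorm J ≤ x} : ℝ) ≤ 1 + (u.card : ℝ) := by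
      have h1 := Finset.card_filter_add_card_filter_not (s := (Finset.univ : Finset {J : Ideal (𝓞 K) // Ideal.absNorm J ≤ x}))
        (fun J => J.1 ≠ ⊥)
      have h2 : (Finset.univ.filter fun J : {J : Ideal (𝓞 K) // Ideal.absNorm J ≤ x} => ¬ J.1 ≠ ⊥).card ≤ 1 := by
        rw [Finset.card_le_one]
        intro a ha b hb
        simp only [ne_eq, not_not, Finset.mem_filter, Finset.mem_univ, true_and] at ha hb
        exact Subtype.ext (ha.trans hb.symm)
      rw [← Finset.card_univ, ← h1, Nat.cast_add, add_comm]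
      have : ((Finset.univ.filter fun J : {J : Ideal (𝓞 K) // Ideal.absNorm J ≤ x} => ¬ J.1 ≠ ⊥).card : ℝ) ≤ 1 := by
        exact_mod_cast h2
      linarith
    rw [Nat.card_eq_fintype_card]
    refine hcard.trans (add_le_add le_rfl ?_)
    have hinj : Set.InjOn (fun J : {J : Ideal (𝓞 K) // Ideal.absNorm J ≤ x} => sec J.1) u := by
      intro a ha b hb h
      have ha' := (Finset.mem_filter.1 ha).2
      have hb' := (Finset.mem_filter.1 hb).2
      have h' : sec a.1 = sec b.1 := h
      exact Subtype.ext (by rw [← hsec _ ha', ← hsec _ hb', h'])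
    have hxpos : (0 : ℝ) < x := lt_of_lt_of_le one_pos hx
    have h3 : (u.card : ℝ) * x ^ (-σ) ≤ T := by
      refine le_trans ?_ (hF.sum_le_tsum (u.image fun J => sec J.1) fun α _ => Real.rpow_nonneg (Nat.cast_nonneg _) _)
      rw [Finset.sum_image hinj, ← nsmul_eq_mul]
      refine Finset.card_nsmul_le_sum _ _ _ fun J hJ => ?_
      refine Real.rpow_le_rpow_of_nonpos (by exact_mod_cast cycNorm_pos N hN (sec J.1)) ?_ (by linarith)
      rw [← hI, hsec _ (Finset.mem_filter.1 hJ).2]
      exact J.2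
    rw [Real.rpow_neg hxpos.le, mul_inv_le_iff₀ (Real.rpow_pos_of_pos hxpos _)] at h3
    exact h3
  have hlim := NumberField.Ideal.tendsto_norm_le_div_atTop K
  have h0 : Filter.Tendsto (fun x : ℝ => (1 + T * x ^ σ) / x) Filter.atTop (nhds 0) := by
    have h1 := tendsto_inv_atTop_zero (𝕜 := ℝ)
    have h2 := (tendsto_rpow_neg_atTop (by linarith : 0 < 1 - σ)).const_mul T
    rw [mul_zero] at h2
    have h3 := h1.add h2
    rw [zero_add] at h3
    refine h3.congr' ?_
    filter_upwards [Filter.eventually_gt_atTop 0] with x hx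
    rw [neg_sub, Real.rpow_sub hx, Real.rpow_one]
    field_simp
  have hle := le_of_tendsto_of_tendsto hlim h0 ?_
  · refine absurd hle (not_le.2 ?_)
    have hreg := NumberField.Units.regulator_pos K
    have hcn : (0 : ℝ) < classNumber K := Nat.cast_pos.2 Fintype.card_pos
    have hdp : (0 : ℝ) < |(discr K : ℝ)| := abs_pos.2 (Int.cast_ne_zero.2 (discr_ne_zero K))
    have htor : (0 : ℝ) < Units.torsionOrder K := by
      rw [Nat.cast_pos]
      exact Nat.pos_of_ne_zero (NeZero.ne _)
    exact div_pos (mul_pos (mul_pos (mul_pos (pow_pos two_pos _)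
      (pow_pos (mul_pos two_pos Real.pi_pos) _)) hreg) hcn) (mul_pos htor (Real.sqrt_pos.2 hdp))
  · filter_upwards [Filter.eventually_ge_atTop 1] with x hx
    exact div_le_div_of_nonneg_right (hbound x hx) (by linarith)

theorem finite_maxId_mem {O : Type u} [CommRing O] {s : O} (hfin : Finite (O ⧸ Ideal.span {s})) :
    {P : MaxId O | s ∈ P.1}.Finite := by
  have : Finite (Ideal (O ⧸ Ideal.span {s})) :=
    Finite.of_injective (fun I => (I : Set (O ⧸ Ideal.span {s}))) SetLike.coe_injective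
  rw [← Set.finite_coe_iff]
  refine Finite.of_injective (fun P : {P : MaxId O | s ∈ P.1} => P.1.1.map (Ideal.Quotient.mk (Ideal.span {s})))
    fun P Q h => ?_
  refine Subtype.ext (Subtype.ext ?_)
  have hh : ∀ R : {P : MaxId O | s ∈ P.1}, (R.1.1.map (Ideal.Quotient.mk (Ideal.span {s}))).comap
      (Ideal.Quotient.mk (Ideal.span {s})) = R.1.1 := fun R => by
    rw [Ideal.comap_map_of_surjective _ Ideal.Quotient.mk_surjective, ← RingHom.ker_eq_comap_bot,
      Ideal.mk_ker, sup_eq_left, Ideal.span_le, Set.singleton_subset_iff]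
    exact R.2
  have h' : P.1.1.map (Ideal.Quotient.mk (Ideal.span {s})) = Q.1.1.map (Ideal.Quotient.mk (Ideal.span {s})) := h
  rw [← hh P, ← hh Q, h']

set_option maxHeartbeats 800000 in
theorem bigOver_int (R : Type u) [CommRing R] [IsDomain R] (e : R ≃+* ℤ) : BigOver R 1 := by
  classical
  intro B _ _ _ _ _ hsep g hg σ hσ hsum
  let j : ℤ →+* B := (algebraMap R B).comp e.symm.toRingHom
  have hjinj : Function.Injective j := (FaithfulSMul.algebraMap_injective R B).comp e.symm.injective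
  have : CharZero B := charZero_of_injective_algebraMap (R := ℤ) (by
    rw [Subsingleton.elim (algebraMap ℤ B) j]; exact hjinj)
  have hft : Algebra.FiniteType ℤ B := by
    refine RingHom.finiteType_algebraMap.1 ?_
    rw [Subsingleton.elim (algebraMap ℤ B) j]
    exact RingHom.FiniteType.comp (RingHom.finiteType_algebraMap.2 ‹_›)
      (RingHom.FiniteType.of_surjective _ e.symm.surjective)
  have hsepZ : SepAlgOver ℤ B := fun b => by
    obtain ⟨p, h0, h1⟩ := hsep b
    have key : ∀ q : R[X], Polynomial.aeval b (q.map e.toRingHom) = Polynomial.aeval b q := fun q => by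
      rw [Polynomial.aeval_def, Polynomial.eval₂_map, Subsingleton.elim (algebraMap ℤ B) j, Polynomial.aeval_def]
      congr 1
      exact RingHom.ext fun r => congrArg (algebraMap R B) (e.symm_apply_apply r)
    exact ⟨p.map e.toRingHom, by rw [key, h0], by rw [derivative_map, key]; exact h1⟩
  suffices H : ∀ (K : Type u) [Field K] [Algebra B K] [IsFractionRing B K], False from H (FractionRing B)
  intro K _ _ _
  have : FaithfulSMul ℤ B := (faithfulSMul_iff_algebraMap_injective _ _).2 (by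
    rw [Subsingleton.elim (algebraMap ℤ B) j]; exact hjinj)
  have : CharZero K := charZero_of_injective_algebraMap (IsFractionRing.injective B K)
  have : @IsScalarTower ℤ ℚ K Algebra.toSMul Algebra.toSMul Algebra.toSMul :=
    IsScalarTower.of_algebraMap_eq' (RingHom.ext_int _ _)
  have : @IsScalarTower ℤ B K Algebra.toSMul Algebra.toSMul Algebra.toSMul :=
    IsScalarTower.of_algebraMap_eq' (RingHom.ext_int _ _)
  have : FiniteDimensional ℚ K := finite_fraction (A := ℤ) (B := B) (K := ℚ) (L := K) hsepZ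
  have : NumberField K := { }
  set σ' := max σ (1 / 2 : ℝ) with hσ'
  have hσ1 : σ' < 1 := max_lt (by exact_mod_cast hσ) (by norm_num)
  have hσ0 : 0 < σ' := lt_of_lt_of_le (by norm_num) (le_max_right _ _)
  have hsum' := summable_mono_exp (fun m : {m : MaxId B // g ∉ m.1} => mnorm m.1)
    (fun m => le_trans one_le_two (two_le_mnorm m.1)) (le_max_left σ (1/2)) hsum
  refine not_summable_maxId K hσ0 hσ1 ?_
  let ι := algebraMap B K
  have hι : Function.Injective ι := IsFractionRing.injective B K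
  -- a common denominator for the integers
  have hO : ∃ D : B, D ≠ 0 ∧ ∀ o : 𝓞 K, ∃ b : B, ι b = ι D * (o : K) := by
    obtain ⟨S, hS⟩ : (⊤ : Submodule ℤ (𝓞 K)).FG := Module.Finite.fg_top
    choose b₁ b₂ hb₂ hb using fun o : 𝓞 K => IsFractionRing.div_surjective (A := B) (o : K)
    refine ⟨∏ o ∈ S, b₂ o, Finset.prod_ne_zero_iff.2 fun o _ => nonZeroDivisors.ne_zero (hb₂ o), fun o => ?_⟩
    have ho : o ∈ Submodule.span ℤ (S : Set (𝓞 K)) := hS ▸ trivial
    induction ho using Submodule.span_induction with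
    | mem x hx =>
      refine ⟨b₁ x * ∏ y ∈ S.erase x, b₂ y, ?_⟩
      rw [← Finset.mul_prod_erase S b₂ hx, map_mul, map_mul, ← hb x]
      have hne : ι (b₂ x) ≠ 0 := fun h => nonZeroDivisors.ne_zero (hb₂ x) ((map_eq_zero_iff _ hι).1 h)
      rw [mul_div_assoc', eq_div_iff hne]
      ring
    | zero => exact ⟨0, by simp⟩
    | add x y _ _ hx hy =>
      obtain ⟨a, ha⟩ := hx
      obtain ⟨b, hb⟩ := hy
      exact ⟨a + b, by
        show ι (a + b) = _ * algebraMap (𝓞 K) K (x + y)
        rw [map_add ι, map_add, ha, hb, mul_add]⟩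
    | smul n x _ hx =>
      obtain ⟨a, ha⟩ := hx
      exact ⟨n • a, by
        show ι (n • a) = _ * algebraMap (𝓞 K) K (n • x)
        rw [map_zsmul, map_zsmul, ha, zsmul_eq_mul, zsmul_eq_mul]; ring⟩
  obtain ⟨D, hD0, hD⟩ := hO
  have hmult : ∀ x : K, ∃ s : ℤ, s ≠ 0 ∧ ∃ o : 𝓞 K, (o : K) = (s : K) * x := fun x => by
    obtain ⟨m, hm⟩ := IsIntegral.exists_multiple_integral_of_isLocalization
      (Rₘ := ℚ) (nonZeroDivisors ℤ) x (Algebra.IsIntegral.isIntegral x)
    have e1 : (m • x : K) = ((m : ℤ) : K) * x := by rw [Submonoid.smul_def, zsmul_eq_mul]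
    have hm' : ((m : ℤ) : K) * x ∈ integralClosure ℤ K := by
      rw [← e1, mem_integralClosure_iff]
      exact hm
    exact ⟨m, nonZeroDivisors.ne_zero m.2, ⟨((m : ℤ) : K) * x, hm'⟩, rfl⟩
  obtain ⟨S, hS⟩ := hft.out
  choose s hs o ho using hmult
  set v := (ι (g * D))⁻¹ with hv
  set a : ℤ := s v * ∏ b ∈ S, s (ι b) with ha
  have ha0 : a ≠ 0 := mul_ne_zero (hs _) (Finset.prod_ne_zero_iff.2 fun b _ => hs _)
  have haK : ((a : 𝓞 K) : K) = (a : K) := map_intCast _ _
  let Cl := Localization.Away (a : 𝓞 K)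
  have hu : IsUnit ((algebraMap (𝓞 K) K) (a : 𝓞 K)) := by
    rw [map_intCast, isUnit_iff_ne_zero]; exact Int.cast_ne_zero.2 ha0
  let κ : Cl →+* K := IsLocalization.Away.lift (a : 𝓞 K) hu
  have hκe : ∀ q, κ (algebraMap _ Cl q) = algebraMap (𝓞 K) K q := IsLocalization.Away.lift_eq _ hu
  have hκ : Function.Injective κ := by
    refine (IsLocalization.lift_injective_iff _).2 fun p q => ⟨fun h => ?_, fun h => ?_⟩
    · rw [← hκe p, ← hκe q, h]
    · rw [IsFractionRing.injective (𝓞 K) K h]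
  have hmem : ∀ x : K, s x ∣ a → x ∈ κ.range := by
    rintro x ⟨r, hr⟩
    obtain ⟨w, hw⟩ := (IsLocalization.Away.algebraMap_isUnit (S := Cl) (a : 𝓞 K)).exists_right_inv
    refine ⟨algebraMap _ Cl ((r : 𝓞 K) * o x) * w, ?_⟩
    have hw' : (a : K) * κ w = 1 := by
      have h := congrArg κ hw
      rw [map_mul, hκe, map_one, map_intCast] at h
      exact h
    have haK' : (a : K) = (s x : K) * (r : K) := by rw [hr, Int.cast_mul]
    rw [map_mul, hκe, map_mul, map_intCast, show algebraMap (𝓞 K) K (o x) = (s x : K) * x from ho x]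
    linear_combination x * hw' - x * κ w * haK'
  have hrange : ∀ b : B, ι b ∈ κ.range := by
    intro b
    have hb' : b ∈ Algebra.adjoin ℤ (S : Set B) := hS ▸ trivial
    induction hb' using Algebra.adjoin_induction with
    | mem x hx => exact hmem _ (dvd_mul_of_dvd_right (Finset.dvd_prod_of_mem _ hx) _)
    | algebraMap r => exact ⟨(r : Cl), by rw [map_intCast, eq_intCast, map_intCast]⟩
    | add p q _ _ hp hq => rw [map_add]; exact κ.range.add_mem hp hq
    | mul p q _ _ hp hq => rw [map_mul]; exact κ.range.mul_mem hp hq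
  choose βf hβf using hrange
  let β : B →+* Cl :=
    { toFun := βf
      map_one' := hκ (by rw [hβf, map_one, map_one])
      map_mul' := fun p q => hκ (by rw [map_mul κ, hβf, hβf, hβf, map_mul])
      map_zero' := hκ (by rw [hβf, map_zero, map_zero])
      map_add' := fun p q => hκ (by rw [map_add κ, hβf, hβf, hβf, map_add]) }
  have hβ : ∀ b, κ (β b) = ι b := hβf
  have hgD : IsUnit (β (g * D)) := by
    obtain ⟨c, hc⟩ := hmem v (dvd_mul_right _ _)
    refine IsUnit.of_mul_eq_one c (hκ ?_)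
    rw [map_mul κ, hβ, hc, hv, map_one, mul_inv_cancel₀]
    exact fun h => mul_ne_zero hg hD0 ((map_eq_zero_iff _ hι).1 h)
  have hDo : ∀ q : 𝓞 K, ∃ b : B, β b = β D * algebraMap _ Cl q := fun q => by
    obtain ⟨b, hb⟩ := hD q
    exact ⟨b, hκ (by rw [map_mul κ, hβ, hβ, hκe]; exact hb)⟩
  have hfinO : Finite (𝓞 K ⧸ Ideal.span {(a : 𝓞 K)}) := by
    refine Ideal.finiteQuotientOfFreeOfNeBot _ fun h => ha0 ?_
    rw [Ideal.span_singleton_eq_bot] at h
    exact_mod_cast h
  let G := {P : MaxId (𝓞 K) // (a : 𝓞 K) ∉ P.1}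
  have hPu : ∀ P : G, IsUnit (Ideal.Quotient.mk P.1.1 (a : 𝓞 K)) := fun P => by
    have := P.1.2
    letI := Ideal.Quotient.field P.1.1
    rw [isUnit_iff_ne_zero, Ne, Ideal.Quotient.eq_zero_iff_mem]
    exact P.2
  let ψ : ∀ P : G, B →+* (𝓞 K ⧸ P.1.1) := fun P => (IsLocalization.Away.lift (a : 𝓞 K) (hPu P)).comp β
  have hψD : ∀ (P : G) (q : 𝓞 K) (b : B), β b = β D * algebraMap _ Cl q →
      ψ P b = ψ P D * Ideal.Quotient.mk P.1.1 q := fun P q b h => by
    show IsLocalization.Away.lift (a : 𝓞 K) (hPu P) (β b) = _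
    rw [h, map_mul, IsLocalization.Away.lift_eq]
    rfl
  have hψg : ∀ P : G, ψ P g ≠ 0 ∧ ψ P D ≠ 0 := fun P => by
    have := P.1.2
    letI := Ideal.Quotient.field P.1.1
    have h := hgD.map (IsLocalization.Away.lift (a : 𝓞 K) (hPu P))
    rw [map_mul, map_mul] at h
    exact ⟨(isUnit_of_mul_isUnit_left h).ne_zero, (isUnit_of_mul_isUnit_right h).ne_zero⟩
  have hker : ∀ P : G, (RingHom.ker (ψ P)).IsMaximal := fun P => by
    have := P.1.2
    letI := Ideal.Quotient.field P.1.1
    have := finite_quot (𝓞 K) P.1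
    have : Finite (B ⧸ RingHom.ker (ψ P)) := Finite.of_injective _ (RingHom.kerLift_injective (ψ P))
    have : (RingHom.ker (ψ P)).IsPrime := RingHom.ker_isPrime _
    exact Ideal.Quotient.maximal_of_isField _ (Finite.isField_of_domain _)
  let km : G → {m : MaxId B // g ∉ m.1} := fun P => ⟨⟨RingHom.ker (ψ P), hker P⟩, (hψg P).1⟩
  have hkinj : Function.Injective km := by
    intro P Q h
    have hk : RingHom.ker (ψ P) = RingHom.ker (ψ Q) := congrArg (fun q : {m : MaxId B // g ∉ m.1} => q.1.1) h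
    refine Subtype.ext (Subtype.ext ?_)
    refine P.1.2.eq_of_le Q.1.2.ne_top fun q hq => ?_
    obtain ⟨b, hb⟩ := hDo q
    have h0 : b ∈ RingHom.ker (ψ P) := by
      rw [RingHom.mem_ker, hψD P q b hb, Ideal.Quotient.eq_zero_iff_mem.2 hq, mul_zero]
    rw [hk, RingHom.mem_ker, hψD Q q b hb] at h0
    have := Q.1.2
    letI := Ideal.Quotient.field Q.1.1
    exact Ideal.Quotient.eq_zero_iff_mem.1 ((mul_eq_zero.1 h0).resolve_left (hψg Q).2)
  have hG : Summable fun P : G => (mnorm P.1 : ℝ) ^ (-σ') := by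
    refine Summable.of_nonneg_of_le (fun P => Real.rpow_nonneg (Nat.cast_nonneg _) _) (fun P => ?_)
      (hsum'.comp_injective hkinj)
    have := finite_quot (𝓞 K) P.1
    refine Real.rpow_le_rpow_of_nonpos
      (by exact_mod_cast lt_of_lt_of_le two_pos (two_le_mnorm (km P).1)) ?_ (by linarith)
    exact Nat.cast_le.2 (Nat.card_le_card_of_injective _ (RingHom.kerLift_injective (ψ P)))
  have hbad := finite_maxId_mem (O := 𝓞 K) (s := (a : 𝓞 K)) hfinO
  refine (Finset.summable_compl_iff hbad.toFinset).1 ?_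
  have hcongr : ∀ P : MaxId (𝓞 K), P ∈ ({P : MaxId (𝓞 K) | (a : 𝓞 K) ∉ P.1} : Set _) ↔ P ∉ hbad.toFinset :=
    fun P => by simp
  exact (Equiv.summable_iff (Equiv.subtypeEquivRight hcongr)).1 hG

end Groth.Agent.Zeta30
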