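import Groth.Agent.Zeta30.Euler
import Groth.Agent.S13070
import Groth.Agent.S9612
import Groth.Prelude.Def_W4c1zetahwZeta
import Mathlib.RingTheory.Jacobson.Ring
import Mathlib.FieldTheory.Finite.GaloisField

/-! Closed points of arithmetic schemes and their norms. -/

set_option autoImplicit false
set_option linter.style.haveILetI false

universe u

open CategoryTheory AlgebraicGeometry Filter

namespace Groth.Agent.Zeta30

/-- A field of finite type over `ℤ` is finite. -/
theorem finite_field_of_finiteType_int (L : Type u) [Field L] [Algebra.FiniteType ℤ L] : Finite L := by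
  have : IsJacobsonRing ℤ := S9612.result
  have hfin : Module.Finite ℤ L := finite_of_finite_type_of_isJacobsonRing ℤ L
  obtain ⟨p, hp⟩ := CharP.exists L
  rcases CharP.char_is_prime_or_zero L p with hpp | rfl
  · have := Fact.mk hpp
    let : Algebra (ZMod p) L := ZMod.algebra L p
    have : IsScalarTower ℤ (ZMod p) L := IsScalarTower.of_algebraMap_eq' (RingHom.ext_int _ _)
    have : Module.Finite (ZMod p) L := Module.Finite.of_restrictScalars_finite ℤ (ZMod p) L
    exact Module.finite_of_finite (ZMod p)
  · have : CharZero L := CharP.charP_to_charZero L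
    have hf : IsField ℤ := isField_of_isIntegral_of_isField (R := ℤ) (S := L)
      (FaithfulSMul.algebraMap_injective ℤ L) (Field.toIsField L)
    obtain ⟨b, hb⟩ := hf.mul_inv_cancel (two_ne_zero : (2 : ℤ) ≠ 0)
    omega

variable (X : Scheme.{u})

/-- The closed points. -/
abbrev CP : Type u := {x : X // IsClosed ({x} : Set X)}

/-- The norm of a closed point. -/
noncomputable def nrm (x : CP X) : ℕ := Nat.card (X.residueField x.1)

theorem arithCoeff_eq : Zeta.arithCoeff X = fun n => (cycCount (nrm X) n : ℂ) := by
  funext n
  refine congrArg (Nat.cast : ℕ → ℂ) (Nat.card_congr ?_)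
  let s : Set X := {x | IsClosed ({x} : Set X)}
  refine ((Equiv.subtypeEquivRight fun α => ?_).trans
    (Equiv.subtypeSubtypeEquivSubtypeInter (fun α : X →₀ ℕ => (α.support : Set X) ⊆ s)
      (fun α => α.prod (fun x m => Nat.card (X.residueField x) ^ m) = n)).symm).trans
    ((Finsupp.restrictSupportEquiv s ℕ).subtypeEquiv fun α => ?_)
  · exact Iff.rfl
  · show _ ↔ cycNorm (nrm X) _ = n
    rw [cycNorm]
    have h : ((Finsupp.restrictSupportEquiv s ℕ α).prod fun x m => nrm X x ^ m) =
        α.1.prod (fun x m => Nat.card (X.residueField x) ^ m) :=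
      Finsupp.prod_subtypeDomain_index (p := (· ∈ s)) (h := fun x m => Nat.card (X.residueField x) ^ m)
        fun x hx => α.2 hx
    exact Eq.congr_left h.symm

variable {X} (f : X ⟶ Spec (CommRingCat.of (ULift.{u} ℤ))) [LocallyOfFiniteType f]

include f in
theorem finite_residueField (x : CP X) : Finite (X.residueField x.1) := by
  have : IsClosedImmersion (X.fromSpecResidueField x.1) :=
    IsClosedImmersion.of_isPreimmersion _ (by rw [Scheme.range_fromSpecResidueField]; exact x.2)
  let φ := Spec.preimage (X.fromSpecResidueField x.1 ≫ f)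
  have h : LocallyOfFiniteType (Spec.map φ) := by rw [Spec.map_preimage]; infer_instance
  rw [HasRingHomProperty.Spec_iff (P := @LocallyOfFiniteType)] at h
  have h2 : (φ.hom.comp (ULift.ringEquiv.symm.toRingHom : ℤ →+* ULift.{u} ℤ)).FiniteType :=
    RingHom.FiniteType.comp h (RingHom.FiniteType.of_surjective _ ULift.ringEquiv.symm.surjective)
  rw [Subsingleton.elim (φ.hom.comp _) (algebraMap ℤ (X.residueField x.1)),
    RingHom.finiteType_algebraMap] at h2
  exact finite_field_of_finiteType_int _

include f in
theorem two_le_nrm (x : CP X) : 2 ≤ nrm X x :=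
  have := finite_residueField f x
  Finite.one_lt_card

/-- The closed points of given norm are bounded by the points with values in that field. -/
theorem card_nrm_le {n : ℕ} (F : Type u) [Field F] [Finite F] (hF : Nat.card F = n)
    [Finite (Spec (CommRingCat.of F) ⟶ X)] :
    Finite {x : CP X // nrm X x = n} ∧
      Nat.card {x : CP X // nrm X x = n} ≤ Nat.card (Spec (CommRingCat.of F) ⟶ X) := by
  classical
  have hfin : ∀ x : {x : CP X // nrm X x = n}, Finite (X.residueField x.1.1) := fun x => by
    refine Nat.finite_of_card_ne_zero ?_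
    show nrm X x.1 ≠ 0
    rw [x.2, ← hF]
    exact Nat.card_pos.ne'
  have e : ∀ x : {x : CP X // nrm X x = n}, X.residueField x.1.1 ≃+* F := fun x => by
    have := hfin x
    have := Fintype.ofFinite (X.residueField x.1.1)
    have := Fintype.ofFinite F
    exact FiniteField.ringEquivOfCardEq (by
      rw [← Nat.card_eq_fintype_card, ← Nat.card_eq_fintype_card, hF]; exact x.2)
  let ψ : {x : CP X // nrm X x = n} → (Spec (CommRingCat.of F) ⟶ X) := fun x =>
    Spec.map (CommRingCat.ofHom (e x).toRingHom) ≫ X.fromSpecResidueField x.1.1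
  have hψ : ∀ x, (ψ x) (IsLocalRing.closedPoint F) = x.1.1 := fun x => by
    show X.fromSpecResidueField x.1.1 _ = _
    exact Scheme.fromSpecResidueField_apply _ _
  have hinj : Function.Injective ψ := fun x y h => by
    refine Subtype.ext (Subtype.ext ?_)
    rw [← hψ x, ← hψ y, h]
  exact ⟨Finite.of_injective ψ hinj, Nat.card_le_card_of_injective ψ hinj⟩

end Groth.Agent.Zeta30
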