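import Groth.Agent.Zeta30.Core
import Groth.Agent.Zeta30.Closed
import Mathlib.RingTheory.Finiteness.Basic

/-! Divergence of norm series: the inductive step. -/

set_option autoImplicit false
set_option linter.style.haveILetI false

universe u

open Polynomial

namespace Groth.Agent.Zeta30

/-- Maximal ideals. -/
abbrev MaxId (B : Type u) [CommRing B] : Type u := {m : Ideal B // m.IsMaximal}

/-- The norm of a maximal ideal. -/
noncomputable def mnorm {B : Type u} [CommRing B] (m : MaxId B) : ℕ := Nat.card (B ⧸ m.1)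

/-- The norm series diverges below `d` on every principal open. -/
def Big (B : Type u) [CommRing B] (d : ℕ) : Prop :=
  ∀ g : B, g ≠ 0 → ∀ σ : ℝ, σ < d →
    ¬ Summable fun m : {m : MaxId B // g ∉ m.1} => (mnorm m.1 : ℝ) ^ (-σ)

/-- `Big` for all domains separably algebraic over a base. -/
def BigOver (R : Type u) [CommRing R] (d : ℕ) : Prop :=
  ∀ (B : Type u) [CommRing B] [IsDomain B] [Algebra R B] [Algebra.FiniteType R B] [FaithfulSMul R B],
    SepAlgOver R B → Big B d

theorem finite_quot (B : Type u) [CommRing B] [Algebra.FiniteType ℤ B] (m : MaxId B) : Finite (B ⧸ m.1) := by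
  have h : (((Ideal.Quotient.mk m.1)).comp (algebraMap ℤ B)).FiniteType :=
    RingHom.FiniteType.comp (RingHom.FiniteType.of_surjective _ Ideal.Quotient.mk_surjective)
      (RingHom.finiteType_algebraMap.2 inferInstance)
  have := m.2
  letI := Ideal.Quotient.field m.1
  have e : ∀ φ : ℤ →+* B ⧸ m.1, φ.FiniteType := fun φ => by
    rw [Subsingleton.elim φ ((Ideal.Quotient.mk m.1).comp (algebraMap ℤ B))]; exact h
  exact @finite_field_of_finiteType_int (B ⧸ m.1) _ (RingHom.finiteType_algebraMap.1 (e _))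

theorem two_le_mnorm {B : Type u} [CommRing B] [Algebra.FiniteType ℤ B] (m : MaxId B) : 2 ≤ mnorm m := by
  have := finite_quot B m
  have := m.2
  have : Nontrivial (B ⧸ m.1) := Ideal.Quotient.nontrivial_iff.2 m.2.ne_top
  exact Finite.one_lt_card

theorem finiteType_int_of_finiteType (R B : Type u) [CommRing R] [CommRing B] [Algebra R B]
    [Algebra.FiniteType R B] [Algebra ℤ R] [Algebra.FiniteType ℤ R] [Algebra ℤ B] : Algebra.FiniteType ℤ B := by
  refine RingHom.finiteType_algebraMap.1 ?_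
  rw [Subsingleton.elim (algebraMap ℤ B) ((algebraMap R B).comp (algebraMap ℤ R))]
  exact RingHom.FiniteType.comp (RingHom.finiteType_algebraMap.2 ‹_›) (RingHom.finiteType_algebraMap.2 ‹_›)

theorem summable_comp_of_bounded {α β : Type*} {f : β → ℝ} (hf : ∀ b, 0 ≤ f b) (hs : Summable f)
    (h : α → β) (M : ℕ) (hfib : ∀ b, Finite {a // h a = b} ∧ Nat.card {a // h a = b} ≤ M) :
    Summable fun a => f (h a) := by
  classical
  refine summable_of_sum_le (c := M * ∑' b, f b) (fun a => hf _) fun u => ?_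
  rw [Finset.sum_comp f h]
  calc ∑ b ∈ u.image h, (u.filter fun a => h a = b).card • f b
      ≤ ∑ b ∈ u.image h, (M : ℝ) * f b := Finset.sum_le_sum fun b _ => by
        rw [nsmul_eq_mul]
        refine mul_le_mul_of_nonneg_right (Nat.cast_le.2 ?_) (hf b)
        have := (hfib b).1
        refine le_trans ?_ (hfib b).2
        rw [← Nat.card_eq_finsetCard]
        exact Nat.card_le_card_of_injective (fun a => ⟨a.1, (Finset.mem_filter.1 a.2).2⟩)
          fun a a' haa => Subtype.ext (congrArg Subtype.val haa :)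
    _ ≤ M * ∑' b, f b := by
        rw [← Finset.mul_sum]
        exact mul_le_mul_of_nonneg_left (hs.sum_le_tsum _ fun b _ => hf b) (Nat.cast_nonneg _)

theorem summable_mono_exp {ι : Type*} (N : ι → ℕ) (hN : ∀ x, 1 ≤ N x) {σ σ' : ℝ} (h : σ ≤ σ')
    (hs : Summable fun x => (N x : ℝ) ^ (-σ)) : Summable fun x => (N x : ℝ) ^ (-σ') :=
  Summable.of_nonneg_of_le (fun _ => Real.rpow_nonneg (Nat.cast_nonneg _) _)
    (fun x => Real.rpow_le_rpow_of_exponent_le (by exact_mod_cast hN x) (by linarith)) hs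

set_option maxHeartbeats 1600000 in
set_option synthInstance.maxHeartbeats 100000 in
/-- The inductive step. -/
theorem bigOver_polynomial {R : Type u} [CommRing R] [IsDomain R] [UniqueFactorizationMonoid R]
    [Algebra.FiniteType ℤ R] {d : ℕ} (hd : 1 ≤ d) (hR : BigOver R d)
    (hUp : ∀ τ : ℝ, (d : ℝ) < τ → Summable fun z : MaxId R => (mnorm z : ℝ) ^ (-τ)) :
    BigOver R[X] (d + 1) := by
  classical
  intro B _ _ _ _ _ hsep g hg σ hσ hsum
  obtain ⟨W, M, c, Q₀, hWfg, hc, hM, hcore⟩ := exists_core hsep hg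
  have : Algebra.FiniteType R W := ⟨(Subalgebra.fg_top W).2 hWfg⟩
  have : Algebra.FiniteType ℤ W := finiteType_int_of_finiteType R W
  have : Algebra.FiniteType ℤ R[X] := finiteType_int_of_finiteType R R[X]
  have : Algebra.FiniteType ℤ B := finiteType_int_of_finiteType R[X] B
  set K := FractionRing R
  set Ω := SeparableClosure K
  have : FaithfulSMul R Ω := (faithfulSMul_iff_algebraMap_injective _ _).2 (by
    rw [IsScalarTower.algebraMap_eq R K Ω]
    exact (algebraMap K Ω).injective.comp (IsFractionRing.injective R _))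
  have : FaithfulSMul R W := (faithfulSMul_iff_algebraMap_injective _ _).2 fun a b h =>
    FaithfulSMul.algebraMap_injective R Ω (congrArg Subtype.val h :)
  have hWbig : Big W d := hR W (sepAlgOver_of_isSeparable (K := K) W)
  set σ' := max σ ((d : ℝ) / 2 + 5 / 4) with hσ'
  have hσ1 : σ' < d + 1 := by
    refine max_lt (by exact_mod_cast hσ) ?_
    have : (1 : ℝ) ≤ d := by exact_mod_cast hd
    linarith
  have hσ2 : (d : ℝ) / 2 + 5 / 4 ≤ σ' := le_max_right _ _
  set τ := σ' - 1 with hτ
  refine hWbig 1 one_ne_zero τ (by rw [hτ]; linarith) ?_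
  have hsum' := summable_mono_exp (fun m : {m : MaxId B // g ∉ m.1} => mnorm m.1)
    (fun m => le_trans one_le_two (two_le_mnorm m.1)) (le_max_left σ ((d : ℝ) / 2 + 5 / 4)) hsum
  -- the contraction
  have hz : ∀ n : MaxId W, (n.1.comap (algebraMap R W)).IsMaximal := fun n => by
    have := n.2
    letI := Ideal.Quotient.field n.1
    have := finite_quot W n
    have : Finite (R ⧸ n.1.comap (algebraMap R W)) :=
      Finite.of_injective (Ideal.quotientMap n.1 (algebraMap R W) le_rfl) Ideal.quotientMap_injective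
    exact Ideal.Quotient.maximal_of_isField _ (Finite.isField_of_domain _)
  let z : MaxId W → MaxId R := fun n => ⟨_, hz n⟩
  have hfib : ∀ w : MaxId R, Finite {n : MaxId W // z n = w} ∧ Nat.card {n : MaxId W // z n = w} ≤ M := by
    intro w
    have := w.2
    letI := Ideal.Quotient.field w.1
    let Fb := AlgebraicClosure (R ⧸ w.1)
    let φ : R →+* Fb := (algebraMap (R ⧸ w.1) Fb).comp (Ideal.Quotient.mk w.1)
    have hemb : ∀ n : {n : MaxId W // z n = w}, ∃ χ : W →+* Fb, χ.comp (algebraMap R W) = φ ∧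
        RingHom.ker χ = n.1.1 := by
      intro n
      have := n.1.2
      letI := Ideal.Quotient.field n.1.1
      have := finite_quot W n.1
      have hle : w.1 ≤ n.1.1.comap (algebraMap R W) := le_of_eq (congrArg Subtype.val n.2.symm :)
      letI : Algebra (R ⧸ w.1) (W ⧸ n.1.1) := (Ideal.quotientMap n.1.1 (algebraMap R W) hle).toAlgebra
      have : Module.Finite (R ⧸ w.1) (W ⧸ n.1.1) := Module.Finite.of_finite
      let emb : (W ⧸ n.1.1) →ₐ[R ⧸ w.1] Fb := IsAlgClosed.lift
      refine ⟨emb.toRingHom.comp (Ideal.Quotient.mk n.1.1), RingHom.ext fun r => ?_, ?_⟩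
      · show emb (algebraMap (R ⧸ w.1) (W ⧸ n.1.1) (Ideal.Quotient.mk w.1 r)) = _
        rw [emb.commutes]
        rfl
      · rw [RingHom.ker_comp_of_injective _ emb.toRingHom.injective, Ideal.mk_ker]
    choose χ hχ hker using hemb
    obtain ⟨hfin, hle⟩ := hM Fb φ
    have hinj : Function.Injective fun n => (⟨χ n, hχ n⟩ : {χ : W →+* Fb // χ.comp (algebraMap R W) = φ}) :=
      fun a b h => by
        have h' : χ a = χ b := congrArg Subtype.val h
        refine Subtype.ext (Subtype.ext ?_)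
        rw [← hker a, ← hker b, h']
    exact ⟨Finite.of_injective _ hinj, (Nat.card_le_card_of_injective _ hinj).trans hle⟩
  -- points of degree one
  let S := {n : MaxId W // mnorm n = mnorm (z n) ∧ Q₀ ≤ mnorm n}
  let Hom := fun n : S => {ψ : B →+* (W ⧸ n.1.1) // ψ.comp ((algebraMap R[X] B).comp C) =
      (Ideal.Quotient.mk n.1.1).comp (algebraMap R W) ∧ ψ g ≠ 0}
  have hsurj : ∀ n : S, Function.Surjective ((Ideal.Quotient.mk n.1.1).comp (algebraMap R W)) := fun n => by
    have := finite_quot W n.1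
    have hi := Ideal.quotientMap_injective (I := n.1.1) (f := algebraMap R W)
    have hb := ((Nat.bijective_iff_injective_and_card _).2 ⟨hi, n.2.1.symm⟩).2
    intro x
    obtain ⟨y, hy⟩ := hb x
    obtain ⟨r, rfl⟩ := Ideal.Quotient.mk_surjective y
    exact ⟨r, hy⟩
  have hψs : ∀ (n : S) (ψ : Hom n), Function.Surjective ψ.1 := fun n ψ x => by
    obtain ⟨r, hr⟩ := hsurj n x
    exact ⟨_, (DFunLike.congr_fun ψ.2.1 r).trans hr⟩
  have hkmax : ∀ (n : S) (ψ : Hom n), (RingHom.ker ψ.1).IsMaximal := fun n ψ => by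
    have := n.1.2
    letI := Ideal.Quotient.field n.1.1
    exact RingHom.ker_isMaximal_of_surjective ψ.1 (hψs n ψ)
  let km : (Σ n : S, Hom n) → {m : MaxId B // g ∉ m.1} := fun p =>
    ⟨⟨RingHom.ker p.2.1, hkmax p.1 p.2⟩, p.2.2.2⟩
  have hkm : ∀ p : Σ n : S, Hom n, mnorm (km p).1 = mnorm p.1.1 := fun p =>
    Nat.card_congr (RingHom.quotientKerEquivOfSurjective (hψs p.1 p.2)).toEquiv
  have hkfib : ∀ m, Finite {p // km p = m} ∧ Nat.card {p // km p = m} ≤ M := by
    intro m
    by_cases hne : Nonempty {p // km p = m}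
    swap
    · rw [not_nonempty_iff] at hne
      rw [Nat.card_of_isEmpty]
      exact ⟨inferInstance, Nat.zero_le _⟩
    obtain ⟨p₀⟩ := hne
    have hzeq : ∀ p : {p // km p = m}, z p.1.1.1 = z p₀.1.1.1 := by
      have key : ∀ p : {p // km p = m}, (z p.1.1.1).1 = m.1.1.comap ((algebraMap R[X] B).comp C) := fun p => by
        rw [show m.1.1 = RingHom.ker p.1.2.1 from (congrArg (fun q : {m : MaxId B // g ∉ m.1} => q.1.1) p.2).symm,
          RingHom.comap_ker, p.1.2.2.1, ← RingHom.comap_ker, Ideal.mk_ker]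
      exact fun p => Subtype.ext ((key p).trans (key p₀).symm)
    obtain ⟨hfin, hle⟩ := hfib (z p₀.1.1.1)
    have hinj : Function.Injective fun p : {p // km p = m} =>
        (⟨p.1.1.1, hzeq p⟩ : {n : MaxId W // z n = z p₀.1.1.1}) := by
      rintro ⟨⟨n, ψ⟩, hp⟩ ⟨⟨n', ψ'⟩, hp'⟩ h
      obtain rfl : n = n' := Subtype.ext (congrArg Subtype.val h :)
      have hk : RingHom.ker ψ.1 = RingHom.ker ψ'.1 :=
        congrArg (fun q : {m : MaxId B // g ∉ m.1} => q.1.1) (hp.trans hp'.symm)
      obtain rfl : ψ = ψ' := by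
        refine Subtype.ext (RingHom.ext fun b => ?_)
        obtain ⟨r, hr⟩ := hsurj n (ψ.1 b)
        have hr1 : ψ.1 (algebraMap R[X] B (C r)) = ψ.1 b := (DFunLike.congr_fun ψ.2.1 r).trans hr
        have hr2 : ψ'.1 (algebraMap R[X] B (C r)) = ψ.1 b := (DFunLike.congr_fun ψ'.2.1 r).trans hr
        have h0 : b - algebraMap R[X] B (C r) ∈ RingHom.ker ψ'.1 := by
          rw [← hk, RingHom.mem_ker, map_sub, hr1, sub_self]
        rw [RingHom.mem_ker, map_sub, sub_eq_zero, hr2] at h0
        exact h0.symm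
      rfl
    exact ⟨Finite.of_injective _ hinj, (Nat.card_le_card_of_injective _ hinj).trans hle⟩
  have hP : Summable fun p : Σ n : S, Hom n => (mnorm p.1.1 : ℝ) ^ (-σ') := by
    refine (summable_comp_of_bounded (f := fun m : {m : MaxId B // g ∉ m.1} => (mnorm m.1 : ℝ) ^ (-σ'))
      (fun m => Real.rpow_nonneg (Nat.cast_nonneg _) _) hsum' km M hkfib).congr fun p => ?_
    rw [hkm p]
  have hS : Summable fun n : S => (mnorm n.1 : ℝ) ^ (-τ) := by
    refine Summable.of_nonneg_of_le (fun n => Real.rpow_nonneg (Nat.cast_nonneg _) _) (fun n => ?_)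
      (((summable_sigma_of_nonneg fun p => Real.rpow_nonneg (Nat.cast_nonneg _) _).1 hP).2.mul_left c⁻¹)
    have := finite_quot W n.1
    have := n.1.2
    letI := Ideal.Quotient.field n.1.1
    have h := hcore (W ⧸ n.1.1) (Ideal.Quotient.mk n.1.1) n.2.2
    have : Finite (Hom n) := Nat.finite_of_card_ne_zero fun h0 => by
      rw [show Nat.card {ψ : B →+* (W ⧸ n.1.1) // ψ.comp ((algebraMap R[X] B).comp C) =
        (Ideal.Quotient.mk n.1.1).comp (algebraMap R W) ∧ ψ g ≠ 0} = 0 from h0, Nat.cast_zero] at h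
      exact absurd h (not_le.2 (mul_pos hc (Nat.cast_pos.2 Nat.card_pos)))
    have := Fintype.ofFinite (Hom n)
    rw [tsum_fintype]
    show _ ≤ c⁻¹ * ∑ _ψ : Hom n, (mnorm n.1 : ℝ) ^ (-σ')
    rw [Finset.sum_const, Finset.card_univ, nsmul_eq_mul, ← Nat.card_eq_fintype_card]
    have hN : (0 : ℝ) < mnorm n.1 := by
      exact_mod_cast lt_of_lt_of_le two_pos (two_le_mnorm n.1)
    calc (mnorm n.1 : ℝ) ^ (-τ) = c⁻¹ * (c * (mnorm n.1 : ℝ) * (mnorm n.1 : ℝ) ^ (-σ')) := by
          rw [mul_assoc, inv_mul_cancel_left₀ hc.ne', hτ, neg_sub, sub_eq_add_neg, Real.rpow_add hN,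
            Real.rpow_one]
      _ ≤ _ := by
          refine mul_le_mul_of_nonneg_left (mul_le_mul_of_nonneg_right ?_ (Real.rpow_nonneg hN.le _)) (inv_nonneg.2 hc.le)
          exact h
  have hUp2 : Summable fun w : MaxId R => (mnorm w : ℝ) ^ (-(2 * τ)) := hUp _ (by rw [hτ]; linarith)
  have hbnd := summable_comp_of_bounded (f := fun w : MaxId R => (mnorm w : ℝ) ^ (-(2 * τ)))
    (fun w => Real.rpow_nonneg (Nat.cast_nonneg _) _) hUp2 z M hfib
  have hsmall : {n : MaxId W | mnorm n < Q₀}.Finite := by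
    have hz1 : ∀ n : MaxId W, mnorm (z n) ≤ mnorm n := fun n => by
      have := finite_quot W n
      exact Nat.card_le_card_of_injective _ (Ideal.quotientMap_injective (I := n.1) (f := algebraMap R W))
    have hev := hUp2.tendsto_cofinite_zero.eventually_lt_const
      (Real.rpow_pos_of_pos (by positivity : (0 : ℝ) < Q₀ + 1) (-(2 * τ)))
    rw [Filter.eventually_cofinite] at hev
    have hwfin : {w : MaxId R | mnorm w < Q₀}.Finite := by
      refine hev.subset fun w hw => ?_
      rw [Set.mem_setOf_eq, not_lt]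
      refine Real.rpow_le_rpow_of_nonpos (by exact_mod_cast lt_of_lt_of_le two_pos (two_le_mnorm w))
        ?_ (by rw [hτ]; linarith)
      have : (mnorm w : ℝ) < Q₀ := by exact_mod_cast hw
      linarith
    refine (hwfin.preimage' (f := z) fun w _ => ?_).subset fun n hn => (hz1 n).trans_lt hn
    have := (hfib w).1
    exact Set.finite_coe_iff.1 (show Finite {n : MaxId W // z n = w} from this)
  have hall : Summable fun n : MaxId W => (mnorm n : ℝ) ^ (-τ) := by
    let A : MaxId W → ℝ := Set.indicator {n | mnorm n = mnorm (z n) ∧ Q₀ ≤ mnorm n}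
      (fun n => (mnorm n : ℝ) ^ (-τ))
    let Sm : MaxId W → ℝ := Set.indicator {n | mnorm n < Q₀} (fun n => (mnorm n : ℝ) ^ (-τ))
    have hA : Summable A := summable_subtype_iff_indicator.1 hS
    have hSm : Summable Sm := by
      refine summable_of_ne_finset_zero (s := hsmall.toFinset) fun n hn => ?_
      rw [Set.Finite.mem_toFinset] at hn
      exact Set.indicator_of_notMem hn _
    refine Summable.of_nonneg_of_le (fun n => Real.rpow_nonneg (Nat.cast_nonneg _) _) (fun n => ?_)
      ((hA.add hSm).add hbnd)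
    have h0 : 0 ≤ (mnorm n : ℝ) ^ (-τ) := Real.rpow_nonneg (Nat.cast_nonneg _) _
    have h1 : 0 ≤ (mnorm (z n) : ℝ) ^ (-(2 * τ)) := Real.rpow_nonneg (Nat.cast_nonneg _) _
    have hA0 : 0 ≤ A n := Set.indicator_nonneg (fun a _ => Real.rpow_nonneg (Nat.cast_nonneg _) _) n
    have hS0 : 0 ≤ Sm n := Set.indicator_nonneg (fun a _ => Real.rpow_nonneg (Nat.cast_nonneg _) _) n
    rcases lt_or_ge (mnorm n) Q₀ with hn | hn
    · have : Sm n = (mnorm n : ℝ) ^ (-τ) := Set.indicator_of_mem (show n ∈ {n | mnorm n < Q₀} from hn) _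
      linarith
    by_cases he : mnorm n = mnorm (z n)
    · have : A n = (mnorm n : ℝ) ^ (-τ) :=
        Set.indicator_of_mem (show n ∈ {n | mnorm n = mnorm (z n) ∧ Q₀ ≤ mnorm n} from ⟨he, hn⟩) _
      linarith
    have hpow : (mnorm (z n) : ℝ) ^ (2 : ℕ) ≤ mnorm n := by
      have := finite_quot W n
      have := (z n).2
      letI := Ideal.Quotient.field (z n).1
      letI : Algebra (R ⧸ (z n).1) (W ⧸ n.1) := (Ideal.quotientMap n.1 (algebraMap R W) le_rfl).toAlgebra
      have : Module.Finite (R ⧸ (z n).1) (W ⧸ n.1) := Module.Finite.of_finite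
      have hcard : mnorm n = mnorm (z n) ^ Module.finrank (R ⧸ (z n).1) (W ⧸ n.1) :=
        Module.natCard_eq_pow_finrank (K := R ⧸ (z n).1) (V := W ⧸ n.1)
      have h2 : 2 ≤ Module.finrank (R ⧸ (z n).1) (W ⧸ n.1) := by
        rcases Nat.lt_or_ge (Module.finrank (R ⧸ (z n).1) (W ⧸ n.1)) 2 with hk | hk
        · exfalso
          interval_cases hk' : Module.finrank (R ⧸ (z n).1) (W ⧸ n.1)
          · rw [pow_zero] at hcard
            have := two_le_mnorm n
            omega
          · exact he (by rw [hcard, pow_one])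
        · exact hk
      rw [hcard]
      exact_mod_cast Nat.pow_le_pow_right (le_trans one_le_two (two_le_mnorm (z n))) h2
    have hz0 : (0 : ℝ) < mnorm (z n) := by exact_mod_cast lt_of_lt_of_le two_pos (two_le_mnorm (z n))
    have h4 : (mnorm n : ℝ) ^ (-τ) ≤ ((mnorm (z n) : ℝ) ^ (2 : ℕ)) ^ (-τ) :=
      Real.rpow_le_rpow_of_nonpos (pow_pos hz0 _) hpow (by rw [hτ]; linarith)
    rw [← Real.rpow_natCast, ← Real.rpow_mul hz0.le] at h4
    rw [show ((2 : ℕ) : ℝ) * -τ = -(2 * τ) by push_cast; ring] at h4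
    linarith
  exact hall.subtype _

end Groth.Agent.Zeta30
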