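import Groth.Agent.Zeta30.Spread
import Mathlib.RingTheory.Polynomial.Basic

/-! The counting core. -/

set_option autoImplicit false
set_option linter.style.haveILetI false

universe u

open Polynomial
open scoped Polynomial.Bivariate

namespace Groth.Agent.Zeta30

variable {R : Type u} [CommRing R] [IsDomain R] [UniqueFactorizationMonoid R]
  {B : Type u} [CommRing B] [IsDomain B] [Algebra R[X] B] [Algebra.FiniteType R[X] B]
  [FaithfulSMul R[X] B]

omit [UniqueFactorizationMonoid R] in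
/-- Boundedly many extensions of a homomorphism to a finitely generated algebraic algebra. -/
theorem exists_hom_bound {Ω : Type u} [Field Ω] [Algebra R Ω] [FaithfulSMul R Ω]
    [Algebra.IsAlgebraic R Ω] (T : Finset Ω) :
    ∃ (W : Subalgebra R Ω) (M : ℕ), W.FG ∧ (T : Set Ω) ⊆ W ∧
      ∀ (F : Type u) [Field F] (φ : R →+* F),
        Finite {χ : W →+* F // χ.comp (algebraMap R W) = φ} ∧
        Nat.card {χ : W →+* F // χ.comp (algebraMap R W) = φ} ≤ M := by
  classical
  choose p hp0 hp using fun x : Ω => Algebra.IsAlgebraic.isAlgebraic (R := R) x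
  set c : R := ∏ x ∈ T, (p x).leadingCoeff with hc
  have hc0 : c ≠ 0 := Finset.prod_ne_zero_iff.2 fun x _ => leadingCoeff_ne_zero.2 (hp0 x)
  have hcΩ : algebraMap R Ω c ≠ 0 := fun h => hc0 ((map_eq_zero_iff _ (FaithfulSMul.algebraMap_injective R Ω)).1 h)
  let T' : Finset Ω := insert (algebraMap R Ω c)⁻¹ T
  set W := Algebra.adjoin R (T' : Set Ω) with hW
  have hTW : (T : Set Ω) ⊆ W := fun x hx => Algebra.subset_adjoin (by simp [T', Finset.mem_coe.1 hx])
  refine ⟨W, ∏ x ∈ T.attach, (p x.1).natDegree, Subalgebra.fg_adjoin_finset T', hTW, fun F _ φ => ?_⟩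
  let w : {x // x ∈ T} → W := fun x => ⟨x.1, hTW x.2⟩
  let ci : W := ⟨(algebraMap R Ω c)⁻¹, Algebra.subset_adjoin (by simp [T'])⟩
  have hci : ci * algebraMap R W c = 1 := Subtype.ext (inv_mul_cancel₀ hcΩ)
  by_cases hne : Nonempty {χ : W →+* F // χ.comp (algebraMap R W) = φ}
  swap
  · rw [not_nonempty_iff] at hne
    rw [Nat.card_of_isEmpty]
    exact ⟨inferInstance, Nat.zero_le _⟩
  obtain ⟨⟨χ₀, hχ₀⟩⟩ := hne
  have hφc : φ c ≠ 0 := by
    intro h
    have h2 := congrArg χ₀ hci
    rw [map_mul, map_one, ← RingHom.comp_apply, hχ₀, h, mul_zero] at h2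
    exact zero_ne_one h2
  let Θ : {χ : W →+* F // χ.comp (algebraMap R W) = φ} →
      ((x : {x // x ∈ T}) → ((p x.1).map φ).roots.toFinset) := fun χ x => ⟨χ.1 (w x), by
    have hlead : φ (p x.1).leadingCoeff ≠ 0 := fun h => hφc (by
      rw [hc, map_prod]; exact Finset.prod_eq_zero x.2 h)
    rw [Multiset.mem_toFinset, mem_roots (map_ne_zero_iff_leadingCoeff hlead), IsRoot, eval_map,
      show (p x.1).eval₂ φ (χ.1 (w x)) = χ.1 ((p x.1).eval₂ (algebraMap R W) (w x)) from by
        rw [hom_eval₂]; exact congrArg (fun ψ => (p x.1).eval₂ ψ (χ.1 (w x))) χ.2.symm]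
    have h0 : (p x.1).eval₂ (algebraMap R W) (w x) = 0 := by
      refine Subtype.ext ?_
      show W.val (aeval (w x) (p x.1)) = 0
      rw [← Polynomial.aeval_algHom_apply]
      exact hp x.1
    rw [h0, map_zero]⟩
  have hΘ : Function.Injective Θ := by
    intro χ χ' h
    refine Subtype.ext (RingHom.ext fun z => ?_)
    have hR : ∀ r, χ.1 (algebraMap R W r) = χ'.1 (algebraMap R W r) := fun r =>
      (DFunLike.congr_fun χ.2 r).trans (DFunLike.congr_fun χ'.2 r).symm
    obtain ⟨z, hz⟩ := z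
    induction hz using Algebra.adjoin_induction with
    | mem x hx =>
      rcases Finset.mem_insert.1 (Finset.mem_coe.1 hx) with rfl | hx
      · refine mul_right_cancel₀ (b := χ.1 (algebraMap R W c)) ?_ ?_
        · rw [← RingHom.comp_apply, χ.2]; exact hφc
        · show χ.1 ci * _ = χ'.1 ci * _
          rw [← map_mul, hci, hR, ← map_mul, hci, map_one, map_one]
      · exact congrArg Subtype.val (congrFun h ⟨x, hx⟩)
    | algebraMap r => exact hR r
    | add a b ha hb iha ihb =>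
      show χ.1 ((⟨a, ha⟩ : W) + ⟨b, hb⟩) = χ'.1 ((⟨a, ha⟩ : W) + ⟨b, hb⟩)
      rw [map_add, map_add, iha, ihb]
    | mul a b ha hb iha ihb =>
      show χ.1 ((⟨a, ha⟩ : W) * ⟨b, hb⟩) = χ'.1 ((⟨a, ha⟩ : W) * ⟨b, hb⟩)
      rw [map_mul, map_mul, iha, ihb]
  refine ⟨Finite.of_injective Θ hΘ, (Nat.card_le_card_of_injective Θ hΘ).trans ?_⟩
  rw [Nat.card_pi, Finset.univ_eq_attach]
  refine Finset.prod_le_prod' fun x _ => ?_
  rw [Nat.card_eq_finsetCard]
  exact (Multiset.toFinset_card_le _).trans ((card_roots' _).trans natDegree_map_le)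
where
  map_ne_zero_iff_leadingCoeff {S F : Type u} [CommRing S] [Field F] {φ : S →+* F} {p : S[X]}
    (h : φ p.leadingCoeff ≠ 0) : p.map φ ≠ 0 := fun h0 => h (by
      rw [Polynomial.leadingCoeff, ← coeff_map, h0, coeff_zero])

set_option maxHeartbeats 600000 in
/-- Relative curves have many points over a multisection. -/
theorem exists_core (hsep : SepAlgOver R[X] B) {g : B} (hg : g ≠ 0) :
    ∃ (W : Subalgebra R (SeparableClosure (FractionRing R))) (M : ℕ) (c : ℝ) (Q₀ : ℕ), W.FG ∧ 0 < c ∧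
      (∀ (F : Type u) [Field F] (φ : R →+* F),
        Finite {χ : W →+* F // χ.comp (algebraMap R W) = φ} ∧
        Nat.card {χ : W →+* F // χ.comp (algebraMap R W) = φ} ≤ M) ∧
      ∀ (F : Type u) [Field F] [Finite F] (χ : W →+* F), Q₀ ≤ Nat.card F →
        c * (Nat.card F : ℝ) ≤ Nat.card {ψ : B →+* F //
          ψ.comp ((algebraMap R[X] B).comp C) = χ.comp (algebraMap R W) ∧ ψ g ≠ 0} := by
  classical
  obtain ⟨f, a, b₁, b₂, β, U, V, d, hf, hm, ha, hd, hUV, hβ, hb, hu⟩ := exists_chart hsep hg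
  set Ω := SeparableClosure (FractionRing R)
  have : FaithfulSMul R Ω := (faithfulSMul_iff_algebraMap_injective _ _).2 (by
    rw [IsScalarTower.algebraMap_eq R (FractionRing R) Ω]
    exact (algebraMap (FractionRing R) Ω).injective.comp (IsFractionRing.injective R _))
  have : Algebra.IsAlgebraic R Ω := ⟨fun x =>
    (IsFractionRing.isAlgebraic_iff R (FractionRing R) Ω).2 (Algebra.IsAlgebraic.isAlgebraic x)⟩
  have hinjΩ := FaithfulSMul.algebraMap_injective R Ω
  have := infinite_of_isSepClosed Ω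
  obtain ⟨t₀, ht₀⟩ : ∃ t₀ : Ω, aeval t₀ (d * a) ≠ 0 := by
    have hne : (d * a).map (algebraMap R Ω) ≠ 0 :=
      (Polynomial.map_ne_zero_iff hinjΩ).2 (mul_ne_zero hd ha)
    obtain ⟨t, ht⟩ := ((Polynomial.finite_setOf_isRoot hne)).infinite_compl.nonempty
    exact ⟨t, fun h => ht (by
      show IsRoot _ t
      rw [IsRoot, eval_map, ← aeval_def]; exact h)⟩
  set f₀ := f.map (aeval (R := R) t₀).toRingHom with hf₀
  have hd₀ : aeval t₀ d ≠ 0 := fun h => ht₀ (by rw [map_mul, h, zero_mul])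
  have hsep₀ : f₀.Separable := by
    have h := congrArg (Polynomial.map (aeval (R := R) t₀).toRingHom) hUV
    rw [Polynomial.map_add, Polynomial.map_mul, Polynomial.map_mul, ← derivative_map, Polynomial.map_C] at h
    refine ⟨C (aeval t₀ d)⁻¹ * U.map (aeval (R := R) t₀).toRingHom,
      C (aeval t₀ d)⁻¹ * V.map (aeval (R := R) t₀).toRingHom, ?_⟩
    rw [← hf₀] at h
    rw [mul_assoc, mul_assoc, ← mul_add, h, ← C_mul]
    show C ((aeval t₀ d)⁻¹ * aeval t₀ d) = 1
    rw [inv_mul_cancel₀ hd₀, map_one]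
  obtain ⟨w, hw⟩ := IsSepClosed.exists_root f₀ (by
    rw [degree_eq_natDegree (hf.map _).ne_zero, hf.natDegree_map]
    exact_mod_cast hm.ne') hsep₀
  obtain ⟨W, M, hWfg, hWT, hM⟩ := exists_hom_bound (R := R) ({t₀, w, (aeval t₀ (d * a))⁻¹} : Finset Ω)
  set e := f.support.sup fun i => (f.coeff i).natDegree with he
  have hei : ∀ i, (f.coeff i).natDegree ≤ e := fun i => by
    by_cases hi : i ∈ f.support
    · exact Finset.le_sup (f := fun i => (f.coeff i).natDegree) hi
    · rw [notMem_support_iff.1 hi, natDegree_zero]; exact Nat.zero_le _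
  set m := f.natDegree with hmdef
  set Γ := e * m * m + 1 with hΓ
  set D := a.natDegree with hD
  set Q₁ := 4 * Γ + 2 * m * (1 + D * m) + 1 with hQ₁
  refine ⟨W, M, 1 / (2 * m), Q₁ * Q₁, hWfg, by positivity, hM, fun F _ _ χ hQ => ?_⟩
  let t' : W := ⟨t₀, hWT (by simp)⟩
  let w' : W := ⟨w, hWT (by simp)⟩
  let v' : W := ⟨(aeval t₀ (d * a))⁻¹, hWT (by simp)⟩
  set φ := χ.comp (algebraMap R W) with hφ
  set tb := χ t' with htb
  set yb := χ w' with hyb
  -- evaluation at the special point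
  have hev : ∀ p : R[X], (p.map φ).eval tb = χ (aeval t' p) := fun p => by
    rw [eval_map, hφ, htb, aeval_def, hom_eval₂]
  have hev2 : ∀ P : R[X][Y], evp tb yb (P.map (mapRingHom φ)) = χ (P.eval₂ (aeval t').toRingHom w') := fun P => by
    rw [hom_eval₂, ← hyb, evp_apply, ← eval₂_evalRingHom, eval₂_map]
    congr 1
    refine RingHom.ext fun p => ?_
    simp only [RingHom.comp_apply, coe_evalRingHom, coe_mapRingHom]
    exact hev p
  have hval : ∀ (P : R[X][Y]) , (W.val (P.eval₂ (aeval t').toRingHom w') : Ω) =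
      (P.map (aeval (R := R) t₀).toRingHom).eval w := fun P => by
    rw [eval_map]
    show W.val.toRingHom _ = _
    rw [hom_eval₂]
    congr 1
    refine RingHom.ext fun p => ?_
    show W.val (aeval t' p) = aeval t₀ p
    rw [← aeval_algHom_apply]
    rfl
  set fc := f.map (mapRingHom φ) with hfc
  have hfc0 : evp tb yb fc = 0 := by
    rw [hev2]
    have : f.eval₂ (aeval t').toRingHom w' = 0 := Subtype.ext ((hval f).trans hw)
    rw [this, map_zero]
  have hunit : ∀ p : R[X], p ∣ d * a → χ (aeval t' p) ≠ 0 := by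
    rintro p ⟨q, hq⟩ h
    have h1 : aeval t' (d * a) * v' = 1 := by
      refine Subtype.ext ?_
      show W.val (aeval t' (d * a)) * (aeval t₀ (d * a))⁻¹ = 1
      rw [← aeval_algHom_apply]
      exact mul_inv_cancel₀ ht₀
    have h2 := congrArg χ h1
    rw [map_mul, hq, map_mul, map_mul, h, zero_mul, zero_mul, map_one] at h2
    exact zero_ne_one h2
  have hfc1 : evp tb yb (derivative fc) ≠ 0 := by
    rw [hfc, derivative_map, hev2]
    intro h
    refine hunit d (dvd_mul_right d a) ?_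
    have h2 := congrArg (fun P : R[X][Y] => evp tb yb (P.map (mapRingHom φ))) hUV
    simp only [Polynomial.map_add, Polynomial.map_mul, map_add, map_mul] at h2
    rw [← hfc, hfc0, mul_zero, zero_add, hev2 (derivative f), h, mul_zero] at h2
    rw [h2.trans ?_]
    rw [hev2, eval₂_C]
    rfl
  have hfcdeg : fc.natDegree = m := hf.natDegree_map _
  have hMZ := many_zeros (F := F) (hf.map (mapRingHom φ)) (e := e) (fun i => by
    rw [coeff_map]; exact natDegree_map_le.trans (hei i)) hfc0 hfc1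
  rw [hf.natDegree_map] at hMZ
  set ac := a.map φ with hac
  have hac0 : ac ≠ 0 := fun h => hunit a (dvd_mul_left a d) (by rw [← hev, ← hac, h, eval_zero])
  let Z := {p : F × F // evp p.1 p.2 fc = 0}
  let Zg := {p : F × F // evp p.1 p.2 fc = 0 ∧ ac.eval p.1 ≠ 0}
  let Zb := {p : F × F // evp p.1 p.2 fc = 0 ∧ ac.eval p.1 = 0}
  have hZ : Nat.card Z ≤ Nat.card Zg + Nat.card Zb := by
    rw [← Nat.card_sum]
    refine Nat.card_le_card_of_injective (fun p => if h : ac.eval p.1.1 = 0 then Sum.inr ⟨p.1, p.2, h⟩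
      else Sum.inl ⟨p.1, p.2, h⟩) fun p q hpq => ?_
    dsimp only at hpq
    split_ifs at hpq <;> simp at hpq <;>
      first | exact Subtype.ext (congrArg Subtype.val hpq :) | exact Subtype.ext hpq
  have hZb : Nat.card Zb ≤ D * m := by
    let r : Zb → Σ t : ac.roots.toFinset, (fc.map (evalRingHom t.1)).roots.toFinset := fun p =>
      ⟨⟨p.1.1, by rw [Multiset.mem_toFinset, mem_roots hac0]; exact p.2.2⟩, ⟨p.1.2, by
        rw [Multiset.mem_toFinset, mem_roots ((hf.map _).map _).ne_zero, IsRoot, eval_map,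
          eval₂_evalRingHom]
        exact p.2.1⟩⟩
    have hr : Function.Injective r := fun p q h => by
      refine Subtype.ext (Prod.ext (congrArg (fun z => z.1.1) h :) ?_)
      exact (congrArg (fun z : Σ t : ac.roots.toFinset, (fc.map (evalRingHom t.1)).roots.toFinset => z.2.1) h :)
    refine (Nat.card_le_card_of_injective r hr).trans ?_
    rw [Nat.card_sigma]
    refine (Finset.sum_le_card_nsmul _ _ m fun t _ => ?_).trans ?_
    · rw [Nat.card_eq_finsetCard]
      exact (Multiset.toFinset_card_le _).trans ((card_roots' _).trans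
        (natDegree_map_le.trans hfcdeg.le))
    · rw [smul_eq_mul, Finset.card_univ, Fintype.card_coe]
      exact Nat.mul_le_mul_right _ ((Multiset.toFinset_card_le _).trans ((card_roots' _).trans natDegree_map_le))
  -- good zeros give homomorphisms
  have hroot : ∀ p : Zg, f.eval₂ ((evalRingHom p.1.1).comp (mapRingHom φ)) p.1.2 = 0 := fun p => by
    rw [← eval₂_map, eval₂_evalRingHom]; exact p.2.1
  let θ₀ : ∀ p : Zg, AdjoinRoot f →+* F := fun p => AdjoinRoot.lift _ p.1.2 (hroot p)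
  have hθu : ∀ p : Zg, IsUnit (θ₀ p (AdjoinRoot.of f a)) := fun p => by
    rw [isUnit_iff_ne_zero]
    show (AdjoinRoot.lift _ p.1.2 (hroot p)) (AdjoinRoot.of f a) ≠ 0
    rw [AdjoinRoot.lift_of]
    exact p.2.2
  let θ : ∀ p : Zg, Localization.Away (AdjoinRoot.of f a) →+* F := fun p =>
    IsLocalization.Away.lift (AdjoinRoot.of f a) (hθu p)
  have hθ : ∀ p q, θ p (algebraMap _ _ q) = θ₀ p q := fun p => IsLocalization.Away.lift_eq _ (hθu p)
  have hψ : ∀ p : Zg, ((θ p).comp β).comp ((algebraMap R[X] B).comp C) = φ ∧ ((θ p).comp β) g ≠ 0 := by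
    intro p
    refine ⟨RingHom.ext fun r => ?_, ?_⟩
    · show θ p (β (algebraMap R[X] B (C r))) = φ r
      rw [hβ, hθ]
      show (AdjoinRoot.lift _ p.1.2 (hroot p)) (AdjoinRoot.of f (C r)) = φ r
      simp
    · have h := hu.map (θ p)
      rw [map_mul, map_mul] at h
      exact (isUnit_of_mul_isUnit_left h).ne_zero
  have hinj : Function.Injective fun p : Zg =>
      (⟨(θ p).comp β, hψ p⟩ : {ψ : B →+* F // ψ.comp ((algebraMap R[X] B).comp C) = φ ∧ ψ g ≠ 0}) := by
    intro p q hpq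
    have h : (θ p).comp β = (θ q).comp β := congrArg Subtype.val hpq
    have hX : ∀ r : Zg, (θ r).comp β (algebraMap R[X] B X) = r.1.1 := fun r => by
      show θ r (β (algebraMap R[X] B X)) = _
      rw [hβ, hθ]
      show (AdjoinRoot.lift _ r.1.2 (hroot r)) (AdjoinRoot.of f X) = _
      simp
    have hY : ∀ r : Zg, (θ r).comp β b₁ = (θ r).comp β b₂ * r.1.2 := fun r => by
      show θ r (β b₁) = θ r (β b₂) * _
      rw [hb, map_mul, hθ]
      show _ * (AdjoinRoot.lift _ r.1.2 (hroot r)) (AdjoinRoot.root f) = _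
      rw [AdjoinRoot.lift_root]
    have hne : (θ q).comp β b₂ ≠ 0 := by
      have h := hu.map (θ q)
      rw [map_mul, map_mul] at h
      exact (isUnit_of_mul_isUnit_right h).ne_zero
    refine Subtype.ext (Prod.ext (by rw [← hX p, h, hX q]) (mul_left_cancel₀ hne ?_))
    rw [← hY q, ← h, hY p, h]
  have hfinψ : Finite {ψ : B →+* F // ψ.comp ((algebraMap R[X] B).comp C) = φ ∧ ψ g ≠ 0} := by
    obtain ⟨S, hS⟩ := ‹Algebra.FiniteType R[X] B›.out
    refine Finite.of_injective (fun ψ => (fun s : S => ψ.1 s.1, ψ.1 (algebraMap R[X] B X))) fun ψ ψ' h => ?_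
    refine Subtype.ext (RingHom.ext fun b => ?_)
    have hb : b ∈ Algebra.adjoin R[X] (S : Set B) := hS ▸ trivial
    have hA : ψ.1.comp (algebraMap R[X] B) = ψ'.1.comp (algebraMap R[X] B) :=
      Polynomial.ringHom_ext (fun r => (DFunLike.congr_fun ψ.2.1 r).trans (DFunLike.congr_fun ψ'.2.1 r).symm)
        (congrArg Prod.snd h :)
    induction hb using Algebra.adjoin_induction with
    | mem x hx => exact congrFun (congrArg Prod.fst h :) ⟨x, hx⟩
    | algebraMap r => exact DFunLike.congr_fun hA r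
    | add x y _ _ hx hy => rw [map_add, map_add, hx, hy]
    | mul x y _ _ hx hy => rw [map_mul, map_mul, hx, hy]
  have hle : Nat.card Zg ≤ Nat.card {ψ : B →+* F // ψ.comp ((algebraMap R[X] B).comp C) = φ ∧ ψ g ≠ 0} :=
    Nat.card_le_card_of_injective _ hinj
  have h1 : (Nat.card Z : ℝ) ≤ Nat.card {ψ : B →+* F // ψ.comp ((algebraMap R[X] B).comp C) = φ ∧ ψ g ≠ 0} + (D * m : ℕ) := by
    exact_mod_cast hZ.trans (Nat.add_le_add hle hZb)
  set q := (Nat.card F : ℝ)
  have hs : (Q₁ : ℝ) ≤ Real.sqrt q := by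
    refine Real.le_sqrt_of_sq_le ?_
    rw [sq]
    simp only [q]
    exact_mod_cast hQ
  have hqq : Real.sqrt q * Real.sqrt q = q := Real.mul_self_sqrt (Nat.cast_nonneg _)
  have hm0 : (0 : ℝ) < m := Nat.cast_pos.2 hm
  rw [div_mul_eq_mul_div, one_mul, div_le_iff₀ (by positivity)]
  set N := (Nat.card {ψ : B →+* F // ψ.comp ((algebraMap R[X] B).comp C) = φ ∧ ψ g ≠ 0} : ℝ)
  have hMZ' : q - 2 * (Γ : ℝ) * Real.sqrt q ≤ (m : ℝ) * ((Nat.card Z : ℝ) + 1) := by
    have := hMZ
    push_cast [hΓ] at this ⊢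
    exact this
  have hΓQ : (4 * (Γ : ℝ) + 2 * m * (1 + D * m) + 1) ≤ Real.sqrt q := by
    have := hs
    push_cast [hQ₁] at this
    exact this
  have h2 := mul_le_mul_of_nonneg_right hΓQ (Real.sqrt_nonneg q)
  rw [hqq] at h2
  have h1s : (1 : ℝ) ≤ Real.sqrt q :=
    le_trans (by exact_mod_cast (by omega : 1 ≤ Q₁)) hs
  have h3 := mul_le_mul_of_nonneg_left h1 hm0.le
  push_cast at h3
  have h4 : 2 * (m : ℝ) * (1 + D * m) * 1 ≤ 2 * (m : ℝ) * (1 + D * m) * Real.sqrt q :=
    mul_le_mul_of_nonneg_left h1s (by positivity)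
  nlinarith

end Groth.Agent.Zeta30
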