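import Mathlib.NumberTheory.LSeries.Convergence
import Mathlib.Analysis.Normed.Group.Tannery
import Mathlib.Analysis.SpecificLimits.Normed
import Mathlib.Analysis.Normed.Ring.InfiniteSum
import Mathlib.Analysis.SpecialFunctions.Pow.Real

/-! Dirichlet series of formal effective combinations of points with norms. -/

set_option autoImplicit false

open Filter Topology

namespace Groth.Agent.Zeta30

variable {ι : Type*}

theorem prod_pow_add {M : Type*} [CommMonoid M] (z : ι → M) (α β : ι →₀ ℕ) :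
    (α + β).prod (fun x m => z x ^ m) = α.prod (fun x m => z x ^ m) * β.prod fun x m => z x ^ m := by
  classical
  exact Finsupp.prod_add_index' (fun x => pow_zero _) fun x m n => pow_add _ m n

/-- Combinations supported in a finite set: a product of geometric series. -/
theorem hasSum_supported {𝕜 : Type*} [NormedField 𝕜] [CompleteSpace 𝕜] (z : ι → 𝕜) (S : Finset ι)
    (hz : ∀ x ∈ S, ‖z x‖ < 1) :
    HasSum (fun α : {α : ι →₀ ℕ // α.support ⊆ S} => α.1.prod fun x m => z x ^ m) (∏ x ∈ S, (1 - z x)⁻¹) ∧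
      Summable fun α : {α : ι →₀ ℕ // α.support ⊆ S} => ‖α.1.prod fun x m => z x ^ m‖ := by
  classical
  induction S using Finset.induction_on with
  | empty =>
    have : Unique {α : ι →₀ ℕ // α.support ⊆ (∅ : Finset ι)} :=
      { default := ⟨0, by simp⟩
        uniq := fun α => Subtype.ext (Finsupp.support_eq_empty.1 (Finset.subset_empty.1 α.2)) }
    refine ⟨?_, Summable.of_finite⟩
    have hd : ((default : {α : ι →₀ ℕ // α.support ⊆ (∅ : Finset ι)}).1) = 0 :=
      Finsupp.support_eq_empty.1 (Finset.subset_empty.1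
        (Subtype.property (p := fun α : ι →₀ ℕ => α.support ⊆ (∅ : Finset ι)) default))
    have h0 : ((default : {α : ι →₀ ℕ // α.support ⊆ (∅ : Finset ι)}).1.prod fun x m => z x ^ m) = 1 := by
      rw [hd, Finsupp.prod_zero_index]
    rw [Finset.prod_empty, ← h0]
    exact hasSum_unique fun α : {α : ι →₀ ℕ // α.support ⊆ (∅ : Finset ι)} => α.1.prod fun x m => z x ^ m
  | insert a S ha ih =>
    obtain ⟨h1, h2⟩ := ih fun x hx => hz x (Finset.mem_insert_of_mem hx)
    let e : ℕ × {α : ι →₀ ℕ // α.support ⊆ S} ≃ {α : ι →₀ ℕ // α.support ⊆ insert a S} :=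
      { toFun := fun p => ⟨Finsupp.single a p.1 + p.2.1, by
          refine Finsupp.support_add.trans (Finset.union_subset ?_ (p.2.2.trans (Finset.subset_insert _ _)))
          exact Finsupp.support_single_subset.trans (by simp)⟩
        invFun := fun β => (β.1 a, ⟨β.1.erase a, by
          rw [Finsupp.support_erase]
          intro x hx
          obtain ⟨hxa, hx⟩ := Finset.mem_erase.1 hx
          exact (Finset.mem_insert.1 (β.2 hx)).resolve_left hxa⟩)
        left_inv := fun p => by
          have h0 : p.2.1 a = 0 := Finsupp.notMem_support_iff.1 fun h => ha (p.2.2 h)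
          refine Prod.ext (by simp [h0]) (Subtype.ext ?_)
          show (Finsupp.single a p.1 + p.2.1).erase a = p.2.1
          rw [Finsupp.erase_add, Finsupp.erase_single, zero_add, Finsupp.erase_of_notMem_support]
          exact fun h => ha (p.2.2 h)
        right_inv := fun β => Subtype.ext (Finsupp.single_add_erase a β.1) }
    have he : ∀ p, (e p).1.prod (fun x m => z x ^ m) = z a ^ p.1 * p.2.1.prod fun x m => z x ^ m := fun p => by
      show (Finsupp.single a p.1 + p.2.1).prod (fun x m => z x ^ m) = _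
      rw [prod_pow_add, Finsupp.prod_single_index (h := fun x m => z x ^ m) (pow_zero _)]
    have hza := hz a (Finset.mem_insert_self a S)
    have hg : Summable fun m : ℕ => ‖z a ^ m‖ := by
      simpa [norm_pow] using summable_geometric_of_lt_one (norm_nonneg _) hza
    constructor
    · rw [Finset.prod_insert ha]
      refine e.hasSum_iff.1 ?_
      have hs : Summable fun p : ℕ × {α : ι →₀ ℕ // α.support ⊆ S} =>
          z a ^ p.1 * p.2.1.prod fun x m => z x ^ m :=
        summable_mul_of_summable_norm (f := fun m : ℕ => z a ^ m)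
          (g := fun α : {α : ι →₀ ℕ // α.support ⊆ S} => α.1.prod fun x m => z x ^ m) hg h2
      have h : HasSum (fun p : ℕ × {α : ι →₀ ℕ // α.support ⊆ S} =>
          z a ^ p.1 * p.2.1.prod fun x m => z x ^ m) ((1 - z a)⁻¹ * ∏ x ∈ S, (1 - z x)⁻¹) := by
        have h0 := tsum_mul_tsum_of_summable_norm (f := fun m : ℕ => z a ^ m)
          (g := fun α : {α : ι →₀ ℕ // α.support ⊆ S} => α.1.prod fun x m => z x ^ m) hg h2
        rw [(hasSum_geometric_of_norm_lt_one hza).tsum_eq, h1.tsum_eq] at h0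
        rw [h0]
        exact hs.hasSum
      exact h.congr_fun he
    · refine e.summable_iff.1 ?_
      have hs : Summable fun p : ℕ × {α : ι →₀ ℕ // α.support ⊆ S} =>
          ‖z a ^ p.1 * p.2.1.prod fun x m => z x ^ m‖ :=
        Summable.mul_norm (f := fun m : ℕ => z a ^ m)
          (g := fun α : {α : ι →₀ ℕ // α.support ⊆ S} => α.1.prod fun x m => z x ^ m) hg h2
      exact hs.congr fun p => by simp only [Function.comp_apply, he]

variable (z : ι → ℂ) {ρ : ℝ}

theorem norm_prod_pow (α : ι →₀ ℕ) :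
    ‖α.prod fun x m => z x ^ m‖ = α.prod fun x m => ‖z x‖ ^ m := by
  simp [Finsupp.prod, norm_prod, norm_pow]

theorem summable_norm_prod (hρ : ρ < 1) (hz : ∀ x, ‖z x‖ ≤ ρ) (hs : Summable fun x => ‖z x‖) :
    Summable fun α : ι →₀ ℕ => ‖α.prod fun x m => z x ^ m‖ := by
  classical
  refine summable_of_sum_le (c := Real.exp ((∑' x, ‖z x‖) / (1 - ρ))) (fun α => norm_nonneg _) fun u => ?_
  let S := u.biUnion fun α => α.support
  obtain ⟨h, -⟩ := hasSum_supported (fun x => ‖z x‖) S fun x _ => by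
    rw [norm_norm]; exact (hz x).trans_lt hρ
  have h1 : ∑ α ∈ u, ‖α.prod fun x m => z x ^ m‖ ≤ ∏ x ∈ S, (1 - ‖z x‖)⁻¹ := by
    have hu : ∀ α ∈ u, α.support ⊆ S := fun α hα => Finset.subset_biUnion_of_mem (fun α : ι →₀ ℕ => α.support) hα
    rw [← Finset.sum_coe_sort]
    simp only [norm_prod_pow]
    have hmono := Finset.univ.sum_map (⟨fun α : u => (⟨α.1, hu α.1 α.2⟩ : {α : ι →₀ ℕ // α.support ⊆ S}),
      fun a b h => Subtype.ext (congrArg (fun q : {α : ι →₀ ℕ // α.support ⊆ S} => q.1) h)⟩ : u ↪ _)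
      (fun β => β.1.prod fun x m => ‖z x‖ ^ m)
    refine hmono.symm.trans_le (sum_le_hasSum _ (fun β _ => ?_) h)
    exact Finset.prod_nonneg fun x _ => pow_nonneg (norm_nonneg _) _
  refine h1.trans ?_
  rw [← tsum_div_const]
  calc ∏ x ∈ S, (1 - ‖z x‖)⁻¹ ≤ ∏ x ∈ S, Real.exp (‖z x‖ / (1 - ρ)) := by
        refine Finset.prod_le_prod (fun x _ => inv_nonneg.2 (by linarith [hz x])) fun x _ => ?_
        refine le_trans ?_ (Real.add_one_le_exp _)
        have h0 : 0 < 1 - ‖z x‖ := by linarith [hz x]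
        have h2 : ‖z x‖ / (1 - ‖z x‖) ≤ ‖z x‖ / (1 - ρ) :=
          div_le_div_of_nonneg_left (norm_nonneg _) (by linarith) (by linarith [hz x])
        have h3 : (1 - ‖z x‖)⁻¹ = ‖z x‖ / (1 - ‖z x‖) + 1 := by field_simp; ring
        linarith
    _ ≤ _ := by
        rw [← Real.exp_sum]
        exact Real.exp_le_exp.2 ((hs.div_const _).sum_le_tsum _ fun x _ =>
          div_nonneg (norm_nonneg _) (by linarith))

theorem tsum_prod_ne_zero (hρ : ρ < 1) (hz : ∀ x, ‖z x‖ ≤ ρ) (hs : Summable fun x => ‖z x‖) :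
    (∑' α : ι →₀ ℕ, α.prod fun x m => z x ^ m) ≠ 0 := by
  classical
  have hF := summable_norm_prod z hρ hz hs
  have hlim : Tendsto (fun S : Finset ι => ∏ x ∈ S, (1 - z x)⁻¹) atTop
      (𝓝 (∑' α : ι →₀ ℕ, α.prod fun x m => z x ^ m)) := by
    have hind : ∀ S : Finset ι, (∏ x ∈ S, (1 - z x)⁻¹) =
        ∑' α : ι →₀ ℕ, ({α : ι →₀ ℕ | α.support ⊆ S}).indicator (fun α => α.prod fun x m => z x ^ m) α :=
      fun S => ((hasSum_supported z S fun x _ => (hz x).trans_lt hρ).1.tsum_eq).symm.trans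
        (tsum_subtype {α : ι →₀ ℕ | α.support ⊆ S} fun α => α.prod fun x m => z x ^ m)
    simp only [hind]
    refine tendsto_tsum_of_dominated_convergence hF (fun α => ?_) (Eventually.of_forall fun S α => ?_)
    · refine tendsto_const_nhds.congr' ?_
      filter_upwards [eventually_ge_atTop α.support] with S hS
      rw [Set.indicator_of_mem]
      exact hS
    · by_cases hα : α ∈ ({α : ι →₀ ℕ | α.support ⊆ S} : Set (ι →₀ ℕ))
      · rw [Set.indicator_of_mem hα]
      · rw [Set.indicator_of_notMem hα, norm_zero]; exact norm_nonneg _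
  intro h0
  rw [h0] at hlim
  have hlb : ∀ S : Finset ι, Real.exp (-∑' x, ‖z x‖) ≤ ‖∏ x ∈ S, (1 - z x)⁻¹‖ := fun S => by
    rw [norm_prod]
    refine le_trans ?_ (Finset.prod_le_prod (fun x _ => (Real.exp_pos (-‖z x‖)).le) fun x _ => ?_)
    · rw [← Real.exp_sum]
      refine Real.exp_le_exp.2 ?_
      rw [Finset.sum_neg_distrib, neg_le_neg_iff]
      exact hs.sum_le_tsum _ fun x _ => norm_nonneg _
    · rw [norm_inv, Real.exp_neg]
      have h1 : (1 : ℂ) - z x ≠ 0 := fun h => by
        have := (hz x).trans_lt hρ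
        rw [← sub_eq_zero.1 h, norm_one] at this
        exact lt_irrefl _ this
      refine inv_anti₀ (norm_pos_iff.2 h1) ?_
      refine ((norm_sub_le _ _).trans ?_).trans (Real.add_one_le_exp _)
      rw [norm_one, add_comm]
  have hle := ge_of_tendsto' hlim.norm hlb
  rw [norm_zero] at hle
  exact absurd hle (not_le.2 (Real.exp_pos _))

variable (N : ι → ℕ)

/-- The norm of a combination. -/
def cycNorm (α : ι →₀ ℕ) : ℕ := α.prod fun x m => N x ^ m

/-- The number of combinations of given norm. -/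
noncomputable def cycCount (n : ℕ) : ℕ := Nat.card {α : ι →₀ ℕ // cycNorm N α = n}

theorem prod_cpow (s : ℂ) (α : ι →₀ ℕ) :
    (α.prod fun x m => ((N x : ℂ) ^ (-s)) ^ m) = (cycNorm N α : ℂ) ^ (-s) := by
  let φ : ℕ →* ℂ :=
    { toFun := fun n => (n : ℂ) ^ (-s)
      map_one' := by simp
      map_mul' := fun m n => by push_cast; exact Complex.natCast_mul_natCast_cpow m n _ }
  show (α.prod fun x m => φ (N x) ^ m) = φ (cycNorm N α)
  rw [cycNorm, map_finsuppProd]
  simp only [map_pow]

theorem cycNorm_pos (hN : ∀ x, 2 ≤ N x) (α : ι →₀ ℕ) : 0 < cycNorm N α :=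
  Finset.prod_pos fun x _ => pow_pos (by linarith [hN x]) _

/-- The Dirichlet series is the Euler product: summable and non-zero. -/
theorem LSeries_cyc (hN : ∀ x, 2 ≤ N x) {s : ℂ} (hs0 : 0 < s.re)
    (hsum : Summable fun x => (N x : ℝ) ^ (-s.re)) :
    (∀ n, Finite {α : ι →₀ ℕ // cycNorm N α = n}) ∧
      LSeriesSummable (fun n => (cycCount N n : ℂ)) s ∧ LSeries (fun n => (cycCount N n : ℂ)) s ≠ 0 := by
  classical
  set z : ι → ℂ := fun x => (N x : ℂ) ^ (-s) with hzdef
  have hnorm : ∀ x, ‖z x‖ = (N x : ℝ) ^ (-s.re) := fun x => by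
    simp [hzdef, Complex.norm_natCast_cpow_of_pos (by linarith [hN x] : 0 < N x)]
  have hρ : (2 : ℝ) ^ (-s.re) < 1 := Real.rpow_lt_one_of_one_lt_of_neg one_lt_two (by linarith)
  have hz : ∀ x, ‖z x‖ ≤ (2 : ℝ) ^ (-s.re) := fun x => by
    rw [hnorm]
    exact Real.rpow_le_rpow_of_nonpos two_pos (by exact_mod_cast hN x) (by linarith)
  have hs : Summable fun x => ‖z x‖ := by simpa [hnorm] using hsum
  have hF : Summable fun α : ι →₀ ℕ => ‖α.prod fun x m => z x ^ m‖ := summable_norm_prod z hρ hz hs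
  have hfin : ∀ n, Finite {α : ι →₀ ℕ // cycNorm N α = n} := fun n => by
    rcases Nat.eq_zero_or_pos n with rfl | hn
    · have : IsEmpty {α : ι →₀ ℕ // cycNorm N α = 0} :=
        ⟨fun α => (cycNorm_pos N hN α.1).ne' α.2⟩
      infer_instance
    refine Finite.of_summable_const (b := (n : ℝ) ^ (-s.re)) (Real.rpow_pos_of_pos (Nat.cast_pos.2 hn) _) ?_
    refine (hF.subtype {α : ι →₀ ℕ | cycNorm N α = n}).congr fun α => ?_
    have hα : cycNorm N α.1 = n := α.2
    show ‖α.1.prod fun x m => z x ^ m‖ = _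
    rw [prod_cpow, hα, Complex.norm_natCast_cpow_of_pos hn, Complex.neg_re]
  have hterm : HasSum (LSeries.term (fun n => (cycCount N n : ℂ)) s)
      (∑' α : ι →₀ ℕ, α.prod fun x m => z x ^ m) := by
    refine HasSum.sigma ((Equiv.sigmaFiberEquiv (cycNorm N)).hasSum_iff.2 hF.of_norm.hasSum) fun n => ?_
    have := Fintype.ofFinite {α : ι →₀ ℕ // cycNorm N α = n}
    have h : LSeries.term (fun n => (cycCount N n : ℂ)) s n =
        ∑ α : {α : ι →₀ ℕ // cycNorm N α = n}, α.1.prod fun x m => z x ^ m := by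
      rw [Finset.sum_congr rfl fun α _ => show (α.1.prod fun x m => z x ^ m) = (n : ℂ) ^ (-s) by
        rw [prod_cpow, α.2], Finset.sum_const, Finset.card_univ, nsmul_eq_mul]
      rcases Nat.eq_zero_or_pos n with rfl | hn
      · have : IsEmpty {α : ι →₀ ℕ // cycNorm N α = 0} :=
          ⟨fun α => (cycNorm_pos N hN α.1).ne' α.2⟩
        simp [LSeries.term_zero]
      · rw [LSeries.term_of_ne_zero hn.ne', cycCount, Nat.card_eq_fintype_card, Complex.cpow_neg,
          div_eq_mul_inv]
    rw [h]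
    exact hasSum_fintype _
  refine ⟨hfin, hterm.summable, ?_⟩
  rw [LSeries, hterm.tsum_eq]
  exact tsum_prod_ne_zero z hρ hz hs

end Groth.Agent.Zeta30
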