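import Groth.Agent.Zeta30.Big
import Groth.Agent.Zeta30.Sum
import Mathlib.AlgebraicGeometry.Morphisms.FiniteType

/-! Maximal ideals of charts as closed points. -/

set_option autoImplicit false
set_option linter.style.haveILetI false

universe u

open CategoryTheory AlgebraicGeometry

namespace Groth.Agent.Zeta30

theorem jacobsonSpace_of_arith {X : Scheme.{u}} (f : X ⟶ Spec (CommRingCat.of (ULift.{u} ℤ)))
    [LocallyOfFiniteType f] : JacobsonSpace X := by
  have : IsJacobsonRing ℤ := S9612.result
  have : IsJacobsonRing (ULift.{u} ℤ) :=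
    isJacobsonRing_of_surjective ⟨((ULift.ringEquiv.{0, u} (R := ℤ)).symm).toRingHom,
      ((ULift.ringEquiv.{0, u} (R := ℤ)).symm).surjective⟩
  exact LocallyOfFiniteType.jacobsonSpace f

theorem exists_maxId_embedding {X : Scheme.{u}} [JacobsonSpace X] {A : Type u} [CommRing A]
    (j : Spec (CommRingCat.of A) ⟶ X) [IsOpenImmersion j] :
    ∃ h : MaxId A → CP X, Function.Injective h ∧ ∀ m, nrm X (h m) = mnorm m := by
  let pt : MaxId A → Spec (CommRingCat.of A) := fun m => ⟨m.1, m.2.isPrime⟩
  have hcl : ∀ m : MaxId A, IsClosed ({j (pt m)} : Set X) := fun m => by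
    have h1 : pt m ∈ closedPoints (Spec (CommRingCat.of A)) :=
      (PrimeSpectrum.isClosed_singleton_iff_isMaximal _).2 m.2
    rw [← j.isOpenEmbedding.preimage_closedPoints] at h1
    exact h1
  refine ⟨fun m => ⟨j (pt m), hcl m⟩, fun a b h => ?_, fun m => ?_⟩
  · have h1 : j (pt a) = j (pt b) := congrArg Subtype.val h
    exact Subtype.ext (congrArg PrimeSpectrum.asIdeal (j.isOpenEmbedding.injective h1))
  · have := m.2
    let e1 := (asIso (j.residueFieldMap (pt m))).commRingCatIsoToRingEquiv
    let e2 := (Scheme.Spec.residueFieldIso (CommRingCat.of A) (pt m)).commRingCatIsoToRingEquiv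
    show Nat.card (X.residueField (j (pt m))) = Nat.card (A ⧸ m.1)
    rw [Nat.card_congr e1.toEquiv, Nat.card_congr e2.toEquiv]
    exact (Nat.card_congr (Equiv.ofBijective _ m.1.bijective_algebraMap_quotient_residueField)).symm

/-- The upper bound on rings. -/
theorem summable_mnorm (A : Type u) [CommRing A] [Algebra.FiniteType ℤ A] {r : ℕ} (hr : ringKrullDim A ≤ r)
    {σ : ℝ} (hσ : (r : ℝ) < σ) : Summable fun m : MaxId A => (mnorm m : ℝ) ^ (-σ) := by
  let φ : ULift.{u} ℤ →+* A := (algebraMap ℤ A).comp ULift.ringEquiv.toRingHom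
  let f : Spec (CommRingCat.of A) ⟶ Spec (CommRingCat.of (ULift.{u} ℤ)) := Spec.map (CommRingCat.ofHom φ)
  have : LocallyOfFiniteType f := by
    rw [HasRingHomProperty.Spec_iff (P := @LocallyOfFiniteType)]
    exact RingHom.FiniteType.comp (RingHom.finiteType_algebraMap.2 inferInstance)
      (RingHom.FiniteType.of_surjective _ ULift.ringEquiv.surjective)
  have := jacobsonSpace_of_arith f
  obtain ⟨h, hinj, hn⟩ := exists_maxId_embedding (𝟙 (Spec (CommRingCat.of A)))
  have hdim : topologicalKrullDim (Spec (CommRingCat.of A)) ≤ (r : WithBot ℕ∞) :=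
    (le_of_eq (PrimeSpectrum.topologicalKrullDim_eq_ringKrullDim A)).trans hr
  exact ((summable_nrm f r hdim hσ).comp_injective hinj).congr fun m => by simp [hn]

end Groth.Agent.Zeta30
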