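import Groth.Agent.Zeta30.BaseFin
import Groth.Agent.Zeta30.BaseInt
import Groth.Agent.Zeta30.Points
import Groth.Agent.E4O.DimFormula
import Mathlib.FieldTheory.SeparablyGenerated
import Mathlib.RingTheory.KrullDimension.Polynomial
import Mathlib.RingTheory.KrullDimension.PID
import Mathlib.FieldTheory.Perfect
import Mathlib.RingTheory.MvPolynomial

/-! Divergence of the norm series below the dimension for domains of finite type over `ℤ`. -/

set_option autoImplicit false
set_option linter.style.haveILetI false

universe u

open Polynomial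

namespace Groth.Agent.Zeta30

theorem bigOver_of_ringEquiv {R R' : Type u} [CommRing R] [CommRing R'] (e : R ≃+* R') {d : ℕ}
    (h : BigOver R d) : BigOver R' d := by
  intro B _ _ _ _ _ hsep
  letI : Algebra R B := ((algebraMap R' B).comp e.toRingHom).toAlgebra
  have : Algebra.FiniteType R B := RingHom.finiteType_algebraMap.1
    (RingHom.FiniteType.comp (RingHom.finiteType_algebraMap.2 ‹Algebra.FiniteType R' B›)
      (RingHom.FiniteType.of_surjective _ e.surjective))
  have : FaithfulSMul R B := (faithfulSMul_iff_algebraMap_injective _ _).2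
    ((FaithfulSMul.algebraMap_injective R' B).comp e.injective)
  refine h B fun b => ?_
  obtain ⟨p, h0, h1⟩ := hsep b
  have key : ∀ q : R'[X], aeval b (q.map e.symm.toRingHom) = aeval b q := fun q => by
    rw [aeval_def, aeval_def, eval₂_map]
    congr 1
    exact RingHom.ext fun x => congrArg (algebraMap R' B) (e.apply_symm_apply x)
  exact ⟨p.map e.symm.toRingHom, by rw [key, h0], by rw [derivative_map, key]; exact h1⟩

theorem bigOver_mvPolynomial_succ {k : Type u} [CommRing k] [IsDomain k] [UniqueFactorizationMonoid k]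
    [IsNoetherianRing k] [Algebra.FiniteType ℤ k] {c : ℕ} (hc : ringKrullDim k ≤ c) (n : ℕ) (h1 : 1 ≤ n + c)
    (h : BigOver (MvPolynomial (Fin n) k) (n + c)) : BigOver (MvPolynomial (Fin (n + 1)) k) (n + 1 + c) := by
  have : @Algebra.FiniteType ℤ (MvPolynomial (Fin n) k) _ _ (Ring.toIntAlgebra _) :=
    finiteType_int_of_finiteType k _
  have hd : ringKrullDim (MvPolynomial (Fin n) k) ≤ ((n + c : ℕ) : WithBot ℕ∞) := by
    rw [MvPolynomial.ringKrullDim_of_isNoetherianRing, Nat.card_eq_fintype_card, Fintype.card_fin,
      Nat.add_comm n c, Nat.cast_add]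
    exact add_le_add hc le_rfl
  have h' := bigOver_polynomial h1 h fun τ hτ => summable_mnorm _ hd hτ
  rw [show n + 1 + c = n + c + 1 by omega]
  exact bigOver_of_ringEquiv (MvPolynomial.finSuccEquiv k n).symm.toRingEquiv h'

theorem bigOver_mvPolynomial_finite (k : Type u) [Field k] [Finite k] :
    ∀ n : ℕ, 1 ≤ n → BigOver (MvPolynomial (Fin n) k) (n + 0) := by
  intro n hn
  have : Algebra.FiniteType ℤ k := by
    have : Module.Finite ℤ k := Module.Finite.of_finite
    infer_instance
  have hk : ringKrullDim k ≤ ((0 : ℕ) : WithBot ℕ∞) := (ringKrullDim_eq_zero_of_field k).le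
  induction n, hn using Nat.le_induction with
  | base =>
    exact bigOver_of_ringEquiv ((MvPolynomial.finSuccEquiv k 0).toRingEquiv.trans
      (Polynomial.mapEquiv (MvPolynomial.isEmptyAlgEquiv k (Fin 0)).toRingEquiv)).symm
      (bigOver_polynomial_finite k)
  | succ n hn ih => exact bigOver_mvPolynomial_succ hk n (by omega) ih

theorem bigOver_mvPolynomial_int (R : Type u) [CommRing R] [IsDomain R] [IsPrincipalIdealRing R]
    (e : R ≃+* ℤ) : ∀ n : ℕ, BigOver (MvPolynomial (Fin n) R) (n + 1) := by
  intro n
  have : Algebra.FiniteType ℤ R := RingHom.finiteType_algebraMap.1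
    (RingHom.FiniteType.of_surjective _ fun x => ⟨e x, e.injective (by simp)⟩)
  have hR : ringKrullDim R ≤ ((1 : ℕ) : WithBot ℕ∞) := by
    have : Ring.KrullDimLE 1 R := inferInstance
    exact Order.KrullDimLE.krullDim_le
  induction n with
  | zero => exact bigOver_of_ringEquiv (MvPolynomial.isEmptyAlgEquiv R (Fin 0)).symm.toRingEquiv (bigOver_int R e)
  | succ n ih => exact bigOver_mvPolynomial_succ hR n (by omega) ih

theorem Big.mono {B : Type u} [CommRing B] {d r : ℕ} (h : Big B d) (hr : r ≤ d) : Big B r :=
  fun g hg σ hσ => h g hg σ (hσ.trans_le (Nat.cast_le.2 hr))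

/-- `Big` descends from a principal localization. -/
theorem big_of_away {B : Type u} [CommRing B] [IsDomain B] [Algebra.FiniteType ℤ B] {c₀ : B} (hc : c₀ ≠ 0)
    {d : ℕ} (hd : 1 ≤ d) (h : Big (Localization.Away c₀) d) : Big B d := by
  intro g hg σ hσ hs
  let B' := Localization.Away c₀
  have : @Algebra.FiniteType ℤ B' _ _ (Ring.toIntAlgebra B') := by
    have : Algebra.FiniteType B B' := IsLocalization.finiteType_of_monoid_fg (Submonoid.powers c₀) B'
    exact @finiteType_int_of_finiteType B B' _ _ _ this _ _ (Ring.toIntAlgebra B')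
  have hle : Submonoid.powers c₀ ≤ nonZeroDivisors B := powers_le_nonZeroDivisors_of_noZeroDivisors hc
  have hinj : Function.Injective (algebraMap B B') := IsLocalization.injective B' hle
  set σ' := max σ 0
  have hs' := summable_mono_exp (fun m : {m : MaxId B // g ∉ m.1} => mnorm m.1)
    (fun m => le_trans one_le_two (two_le_mnorm m.1)) (le_max_left σ 0) hs
  refine h (algebraMap B B' g) ((map_ne_zero_iff _ hinj).2 hg) σ'
    (max_lt hσ (by exact_mod_cast hd)) ?_
  have hmax : ∀ m : MaxId B', (m.1.comap (algebraMap B B')).IsMaximal := fun m => by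
    have := m.2
    have := finite_quot B' m
    have : Finite (B ⧸ m.1.comap (algebraMap B B')) :=
      Finite.of_injective (Ideal.quotientMap m.1 (algebraMap B B') le_rfl) Ideal.quotientMap_injective
    exact Ideal.Quotient.maximal_of_isField _ (Finite.isField_of_domain _)
  let φ : {m : MaxId B' // algebraMap B B' g ∉ m.1} → {m : MaxId B // g ∉ m.1} := fun m =>
    ⟨⟨_, hmax m.1⟩, m.2⟩
  have hφ : Function.Injective φ := fun a b hab => by
    have h0 : a.1.1.comap (algebraMap B B') = b.1.1.comap (algebraMap B B') :=
      congrArg (fun q : {m : MaxId B // g ∉ m.1} => q.1.1) hab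
    refine Subtype.ext (Subtype.ext ?_)
    calc a.1.1 = (a.1.1.comap (algebraMap B B')).map (algebraMap B B') :=
          (IsLocalization.map_comap (Submonoid.powers c₀) B' a.1.1).symm
      _ = _ := by rw [h0, IsLocalization.map_comap (Submonoid.powers c₀) B' b.1.1]
  refine Summable.of_nonneg_of_le (fun m => Real.rpow_nonneg (Nat.cast_nonneg _) _) (fun m => ?_)
    (hs'.comp_injective hφ)
  refine Real.rpow_le_rpow_of_nonpos (by exact_mod_cast lt_of_lt_of_le two_pos (two_le_mnorm (φ m).1)) ?_
    (neg_nonpos.2 (le_max_right _ _))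
  have := finite_quot B' m.1
  exact Nat.cast_le.2 (Nat.card_le_card_of_injective
    (Ideal.quotientMap m.1.1 (algebraMap B B') le_rfl) Ideal.quotientMap_injective)

theorem sepAlgOver_of_injective {R K L B : Type*} [CommRing R] [Field K] [Algebra R K] [IsFractionRing R K]
    [Field L] [Algebra K L] [Algebra R L] [IsScalarTower R K L] [Algebra.IsSeparable K L]
    [CommRing B] [Algebra R B] (ι : B →ₐ[R] L) (hι : Function.Injective ι) : SepAlgOver R B := by
  intro b
  obtain ⟨p, h0, h1⟩ := sepAlgOver_of_isSeparable (K := K) ι.range ⟨ι b, b, rfl⟩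
  have key : ∀ q : R[X], ι (aeval b q) = (aeval (⟨ι b, b, rfl⟩ : ι.range) q : L) := fun q => by
    rw [← Polynomial.aeval_algHom_apply, ← Subalgebra.coe_val, ← Polynomial.aeval_algHom_apply,
      Subalgebra.coe_val]
  refine ⟨p, hι ?_, fun h => h1 (Subtype.ext ?_)⟩
  · rw [key, h0, map_zero, ZeroMemClass.coe_zero]
  · rw [ZeroMemClass.coe_zero, ← key, h, map_zero]

set_option maxHeartbeats 1600000 in
set_option synthInstance.maxHeartbeats 100000 in
theorem big_of_base {k B : Type u} [CommRing k] [IsDomain k] [IsNoetherianRing k] [PerfectField (FractionRing k)]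
    [CommRing B] [IsDomain B] [Algebra.FiniteType ℤ B] [Algebra k B] [FaithfulSMul k B]
    [Algebra.FiniteType k B] {c r : ℕ} (hc : ringKrullDim k ≤ c)
    (hbase : ∀ n, 1 ≤ n + c → BigOver (MvPolynomial (Fin n) k) (n + c))
    (hr1 : 1 ≤ r) (hr : (r : WithBot ℕ∞) ≤ ringKrullDim B) : Big B r := by
  classical
  let K₀ := FractionRing k
  let L := FractionRing B
  have : FaithfulSMul k L := (faithfulSMul_iff_algebraMap_injective _ _).2 (by
    rw [IsScalarTower.algebraMap_eq k B L]
    exact (IsFractionRing.injective B L).comp (FaithfulSMul.algebraMap_injective k B))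
  letI : Algebra K₀ L := FractionRing.liftAlgebra k L
  have : IsScalarTower k K₀ L := FractionRing.isScalarTower_liftAlgebra k L
  have hess : Algebra.EssFiniteType K₀ L := by
    have : Algebra.EssFiniteType B L := Algebra.EssFiniteType.of_isLocalization L (nonZeroDivisors B)
    have : Algebra.EssFiniteType k L := Algebra.EssFiniteType.comp k B L
    exact Algebra.EssFiniteType.of_comp k K₀ L
  obtain ⟨s, hs, hsepL⟩ := exists_isTranscendenceBasis_and_isSeparable_of_perfectField K₀ L
  set n := s.card
  let e : Fin n ≃ s := s.equivFin.symm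
  have htr : Algebra.trdeg K₀ L = n := by
    rw [← hs.cardinalMk_eq_trdeg, Cardinal.mk_coe_finset]
  have htrB : Algebra.trdeg k B ≤ (n : Cardinal.{u}) := by
    refine (trdeg_le_of_injective (IsScalarTower.toAlgHom k B L) (IsFractionRing.injective B L)).trans ?_
    have : Algebra.IsAlgebraic k K₀ := IsLocalization.isAlgebraic K₀ (nonZeroDivisors k)
    rw [← trdeg_add_eq k K₀ (A := L), trdeg_eq_zero, zero_add, htr]
  have hdim : ringKrullDim B ≤ ((n + c : ℕ) : WithBot ℕ∞) := by
    have : IsNoetherianRing B := Algebra.FiniteType.isNoetherianRing k B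
    refine (ringKrullDim_le_iff_isMaximal_height_le _).2 fun m hm => ?_
    have h1 := E4O.height_add_trdeg_le k B (m.under k) m
    have h2 : (m.height : Cardinal.{u}) ≤ ((c : ℕ∞) : Cardinal.{u}) + (n : Cardinal.{u}) := by
      refine (self_le_add_right _ _).trans (h1.trans (add_le_add ?_ htrB))
      refine Cardinal.ofENat_le_ofENat.2 (WithBot.coe_le_coe.1 ?_)
      exact (Ideal.height_le_ringKrullDim_of_ne_top Ideal.IsPrime.ne_top').trans hc
    rw [show ((c : ℕ∞) : Cardinal.{u}) + (n : Cardinal.{u}) = (((n + c : ℕ) : ℕ∞) : Cardinal.{u}) by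
      simp [Nat.cast_add, add_comm]] at h2
    exact WithBot.coe_le_coe.2 (Cardinal.ofENat_le_ofENat.1 h2)
  have hrn : r ≤ n + c := by exact_mod_cast hr.trans hdim
  choose b q hq hx using fun i => IsFractionRing.div_surjective (A := B) ((e i : L))
  set c₀ : B := ∏ i, q i with hc₀def
  have hc₀ : c₀ ≠ 0 := Finset.prod_ne_zero_iff.2 fun i _ => nonZeroDivisors.ne_zero (hq i)
  have hle : Submonoid.powers c₀ ≤ nonZeroDivisors B := powers_le_nonZeroDivisors_of_noZeroDivisors hc₀
  refine (big_of_away hc₀ (hr1.trans hrn) ?_).mono hrn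
  let B' := Localization.Away c₀
  have : IsDomain B' := IsLocalization.isDomain_localization hle
  have hc₀L : IsUnit (algebraMap B L c₀) :=
    isUnit_iff_ne_zero.2 ((map_ne_zero_iff _ (IsFractionRing.injective B L)).2 hc₀)
  let ι : B' →+* L := IsLocalization.Away.lift c₀ hc₀L
  have hι : ∀ x, ι (algebraMap B B' x) = algebraMap B L x := fun x => IsLocalization.Away.lift_eq c₀ hc₀L x
  have hιinj : Function.Injective ι := by
    refine (IsLocalization.lift_injective_iff _).2 fun x y => ⟨fun h => ?_, fun h => ?_⟩
    · exact congrArg (algebraMap B L) (IsLocalization.injective B' hle h)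
    · exact congrArg (algebraMap B B') (IsFractionRing.injective B L h)
  have hqu : ∀ i, IsUnit (algebraMap B B' (q i)) := fun i =>
    isUnit_of_dvd_unit (map_dvd _ (Finset.dvd_prod_of_mem q (Finset.mem_univ i)))
      (IsLocalization.Away.algebraMap_isUnit c₀)
  let t : Fin n → B' := fun i => algebraMap B B' (b i) * ↑(hqu i).unit⁻¹
  have ht : ∀ i, ι (t i) = (e i : L) := fun i => by
    have h0 : algebraMap B L (q i) ≠ 0 :=
      (map_ne_zero_iff _ (IsFractionRing.injective B L)).2 (nonZeroDivisors.ne_zero (hq i))
    rw [← hx i, eq_div_iff h0, ← hι (q i), ← map_mul]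
    show ι (algebraMap B B' (b i) * ↑(hqu i).unit⁻¹ * algebraMap B B' (q i)) = _
    rw [mul_assoc, IsUnit.val_inv_mul, mul_one, hι]
  let R := MvPolynomial (Fin n) k
  let ψ : R →ₐ[k] B' := MvPolynomial.aeval t
  letI : Algebra R B' := ψ.toRingHom.toAlgebra
  have : IsScalarTower k R B' := IsScalarTower.of_algebraMap_eq fun x => (ψ.commutes x).symm
  have : Algebra.FiniteType R B' := by
    have : Algebra.FiniteType B B' := IsLocalization.finiteType_of_monoid_fg (Submonoid.powers c₀) B'
    have : Algebra.FiniteType k B' := Algebra.FiniteType.trans ‹Algebra.FiniteType k B› this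
    exact Algebra.FiniteType.of_restrictScalars_finiteType k R B'
  letI : Algebra R L := (ι.comp ψ.toRingHom).toAlgebra
  have hιk : ∀ x : k, ι (algebraMap k B' x) = algebraMap k L x := fun x => by
    rw [IsScalarTower.algebraMap_apply k B B', hι, ← IsScalarTower.algebraMap_apply]
  let ιk : B' →ₐ[k] L := { ι with commutes' := hιk }
  have hcomp : ιk.comp ψ = MvPolynomial.aeval fun i => (e i : L) :=
    MvPolynomial.algHom_ext fun i => by
      show ι (ψ (MvPolynomial.X i)) = _
      rw [MvPolynomial.aeval_X, MvPolynomial.aeval_X, ht]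
  have hindep : AlgebraicIndependent k fun i => (e i : L) :=
    ((hs.1.comp e e.injective).restrictScalars (IsFractionRing.injective k K₀) :)
  have hRL : Function.Injective (algebraMap R L) := fun x y h =>
    hindep ((DFunLike.congr_fun hcomp x).symm.trans ((show ι (ψ x) = ι (ψ y) from h).trans
      (DFunLike.congr_fun hcomp y)))
  have : FaithfulSMul R L := (faithfulSMul_iff_algebraMap_injective _ _).2 hRL
  have : FaithfulSMul R B' := (faithfulSMul_iff_algebraMap_injective _ _).2 fun x y h =>
    hRL (congrArg ι h :)
  letI : Algebra (FractionRing R) L := FractionRing.liftAlgebra R L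
  have : IsScalarTower R (FractionRing R) L := FractionRing.isScalarTower_liftAlgebra R L
  let φ := algebraMap (FractionRing R) L
  let F := IntermediateField.adjoin K₀ (s : Set L)
  have hmemR : ∀ x : R, algebraMap R L x ∈ φ.fieldRange := fun x =>
    ⟨algebraMap R (FractionRing R) x, (IsScalarTower.algebraMap_apply R (FractionRing R) L x).symm⟩
  have hk : ∀ x : k, algebraMap k L x ∈ φ.fieldRange := fun x => by
    have h := hmemR (algebraMap k R x)
    rwa [show algebraMap R L (algebraMap k R x) = algebraMap k L x from
      (congrArg ι (ψ.commutes x)).trans (hιk x)] at h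
  have hF : F.toSubfield ≤ φ.fieldRange := by
    rw [IntermediateField.adjoin_toSubfield, Subfield.closure_le]
    rintro x (⟨a, rfl⟩ | hxs)
    · obtain ⟨a₁, a₂, -, rfl⟩ := IsFractionRing.div_surjective (A := k) a
      rw [map_div₀, ← IsScalarTower.algebraMap_apply, ← IsScalarTower.algebraMap_apply]
      exact div_mem (hk _) (hk _)
    · have h := hmemR (MvPolynomial.X (e.symm ⟨x, hxs⟩))
      rwa [show algebraMap R L (MvPolynomial.X (e.symm ⟨x, hxs⟩)) = x from
        (congrArg ι (MvPolynomial.aeval_X t _)).trans ((ht _).trans (by simp))] at h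
  let eF := RingEquiv.ofBijective φ.rangeRestrictField φ.rangeRestrictField_bijective
  letI : Algebra F (FractionRing R) :=
    (eF.symm.toRingHom.comp (Subfield.inclusion hF)).toAlgebra
  have : IsScalarTower F (FractionRing R) L := IsScalarTower.of_algebraMap_eq fun x => by
    show (x : L) = φ (eF.symm (Subfield.inclusion hF x))
    exact (congrArg Subtype.val (eF.apply_symm_apply (Subfield.inclusion hF x))).symm
  have : Algebra.IsSeparable (FractionRing R) L := Algebra.isSeparable_tower_top_of_isSeparable F _ L
  have hsep : SepAlgOver R B' := sepAlgOver_of_injective (K := FractionRing R) (L := L)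
    ({ ι with commutes' := fun x => rfl } : B' →ₐ[R] L) hιinj
  exact hbase n (hr1.trans hrn) B' hsep

/-- Divergence below the dimension. -/
theorem big_of_domain (B : Type u) [CommRing B] [IsDomain B] [Algebra.FiniteType ℤ B] {r : ℕ}
    (hr1 : 1 ≤ r) (hr : (r : WithBot ℕ∞) ≤ ringKrullDim B) : Big B r := by
  obtain ⟨p, hp⟩ := CharP.exists B
  rcases CharP.char_is_prime_or_zero B p with hpp | rfl
  · have := Fact.mk hpp
    let k := ULift.{u} (ZMod p)
    letI : Field k := inferInstanceAs (Field (ULift.{u} (ZMod p)))
    letI : Algebra k B := ((ZMod.castHom dvd_rfl B).comp (ULift.ringEquiv : k ≃+* ZMod p).toRingHom).toAlgebra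
    have : FaithfulSMul k B := (faithfulSMul_iff_algebraMap_injective _ _).2 (algebraMap k B).injective
    have : Algebra.FiniteType k B := RingHom.finiteType_algebraMap.1 (by
      have h : ((algebraMap k B).comp (algebraMap ℤ k)).FiniteType := by
        rw [Subsingleton.elim ((algebraMap k B).comp (algebraMap ℤ k)) (algebraMap ℤ B),
          RingHom.finiteType_algebraMap]
        infer_instance
      exact h.of_comp_finiteType)
    have : Finite k := inferInstance
    have : Finite (FractionRing k) := Finite.of_surjective _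
      ((IsFractionRing.surjective_iff_isField (R := k) (K := FractionRing k)).2 (Field.toIsField k))
    exact big_of_base (k := k) (c := 0) (ringKrullDim_eq_zero_of_field k).le
      (fun n hn => bigOver_mvPolynomial_finite k n (by omega)) hr1 hr
  · have := CharP.charP_to_charZero B
    let k := ULift.{u} ℤ
    let e : k ≃+* ℤ := ULift.ringEquiv
    have : IsDomain k := e.toMulEquiv.isDomain ℤ
    have : IsPrincipalIdealRing k := IsPrincipalIdealRing.of_surjective e.symm.toRingHom e.symm.surjective
    letI : Algebra k B := ((algebraMap ℤ B).comp e.toRingHom).toAlgebra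
    have : @FaithfulSMul k B Algebra.toSMul := (faithfulSMul_iff_algebraMap_injective _ _).2 fun x y h =>
      e.injective (FaithfulSMul.algebraMap_injective ℤ B h)
    have : Algebra.FiniteType k B := RingHom.finiteType_algebraMap.1 (by
      refine RingHom.FiniteType.of_comp_finiteType (f := e.symm.toRingHom) ?_
      rw [Subsingleton.elim ((algebraMap k B).comp e.symm.toRingHom) (algebraMap ℤ B),
        RingHom.finiteType_algebraMap]
      infer_instance)
    have : CharZero k := charZero_of_injective_ringHom (f := e.symm.toRingHom) e.symm.injective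
    have : CharZero (FractionRing k) :=
      charZero_of_injective_algebraMap (IsFractionRing.injective k (FractionRing k))
    have hk : ringKrullDim k ≤ ((1 : ℕ) : WithBot ℕ∞) := Order.KrullDimLE.krullDim_le
    exact big_of_base (k := k) (c := 1) hk (fun n _ => bigOver_mvPolynomial_int k e n) hr1 hr

end Groth.Agent.Zeta30
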