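import Groth.Agent.Zeta30.PlaneCount
import Mathlib.FieldTheory.PrimitiveElement
import Mathlib.FieldTheory.IsSepClosed
import Mathlib.RingTheory.Localization.Integral
import Mathlib.RingTheory.Localization.Away.Basic

/-! Homomorphisms to finite fields of a relative curve with a multisection. -/

set_option autoImplicit false
set_option linter.style.haveILetI false

universe u

open Polynomial
open scoped Polynomial.Bivariate

namespace Groth.Agent.Zeta30

theorem exists_integral_repr {A K : Type*} [CommRing A] [Field K] [Algebra A K] [IsFractionRing A K]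
    (P₀ : K[X]) : ∃ (a : A) (P : A[X]), a ∈ nonZeroDivisors A ∧ P.map (algebraMap A K) = C (algebraMap A K a) * P₀ := by
  obtain ⟨b, hb⟩ := IsLocalization.integerNormalization_map_to_map (nonZeroDivisors A) P₀
  refine ⟨b.1, IsLocalization.integerNormalization (nonZeroDivisors A) P₀, b.2, ?_⟩
  rw [hb, Algebra.smul_def]
  rfl

/-- Elements are killed by a polynomial with a simple zero there. -/
def SepAlgOver (R B : Type*) [CommRing R] [CommRing B] [Algebra R B] : Prop :=
  ∀ b : B, ∃ p : R[X], aeval b p = 0 ∧ aeval b (derivative p) ≠ 0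

theorem sepAlgOver_of_isSeparable {R K L : Type*} [CommRing R] [Field K] [Algebra R K] [IsFractionRing R K]
    [Field L] [Algebra K L] [Algebra R L] [IsScalarTower R K L] [Algebra.IsSeparable K L]
    (B : Subalgebra R L) : SepAlgOver R B := by
  intro b
  obtain ⟨a, p, ha, hp⟩ := exists_integral_repr (A := R) (minpoly K (b : L))
  refine ⟨p, ?_, fun h => ?_⟩
  · refine Subtype.ext ?_
    rw [ZeroMemClass.coe_zero, ← Subalgebra.coe_val, ← Polynomial.aeval_algHom_apply,
      Subalgebra.coe_val, ← aeval_map_algebraMap K, hp, map_mul, minpoly.aeval, mul_zero]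
  · have h1 : aeval (b : L) (derivative p) = 0 := by
      rw [show ((b : L)) = B.val b from rfl, Polynomial.aeval_algHom_apply, h, map_zero]
    rw [← aeval_map_algebraMap K, ← derivative_map, hp, derivative_C_mul, map_mul, aeval_C,
      mul_eq_zero] at h1
    rcases h1 with h1 | h1
    · rw [map_eq_zero_iff _ (algebraMap K L).injective, IsFractionRing.to_map_eq_zero_iff] at h1
      have : Nontrivial R := (IsFractionRing.nontrivial_iff_nontrivial R K).2 inferInstance
      exact nonZeroDivisors.ne_zero ha h1
    · exact (Algebra.IsSeparable.isSeparable K (b : L)).aeval_derivative_ne_zero (minpoly.aeval _ _) h1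

section Frac

variable {A B K L : Type*} [CommRing A] [IsDomain A] [CommRing B] [IsDomain B] [Algebra A B]
  [FaithfulSMul A B] [Field K] [Algebra A K] [IsFractionRing A K] [Field L] [Algebra B L]
  [IsFractionRing B L] [Algebra K L] [Algebra A L] [IsScalarTower A B L] [IsScalarTower A K L]

theorem isSeparable_fraction (hsep : SepAlgOver A B) : Algebra.IsSeparable K L := by
  have hb : ∀ b : B, IsSeparable K (algebraMap B L b) := fun b => by
    obtain ⟨p, h0, h1⟩ := hsep b
    set z := algebraMap B L b
    have h0' : aeval z (p.map (algebraMap A K)) = 0 := by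
      rw [aeval_map_algebraMap, aeval_algebraMap_apply, h0, map_zero]
    have h1' : aeval z (derivative (p.map (algebraMap A K))) ≠ 0 := by
      rw [derivative_map, aeval_map_algebraMap, aeval_algebraMap_apply]
      exact fun h => h1 ((map_eq_zero_iff _ (IsFractionRing.injective B L)).1 h)
    have hp : p.map (algebraMap A K) ≠ 0 := fun h => h1' (by rw [h, derivative_zero, map_zero])
    have hint : IsIntegral K z := IsAlgebraic.isIntegral ⟨_, hp, h0'⟩
    refine (separable_iff_derivative_ne_zero (minpoly.irreducible hint)).2 fun hd => h1' ?_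
    obtain ⟨q, hq⟩ := minpoly.dvd K z h0'
    rw [hq, derivative_mul, hd, zero_mul, zero_add, map_mul, minpoly.aeval, zero_mul]
  refine ⟨fun z => ?_⟩
  obtain ⟨b₁, b₂, -, rfl⟩ := IsFractionRing.div_surjective (A := B) z
  exact mem_separableClosure_iff.1
    (div_mem (mem_separableClosure_iff.2 (hb b₁)) (mem_separableClosure_iff.2 (hb b₂)))

theorem finite_fraction [Algebra.FiniteType A B] (hsep : SepAlgOver A B) : FiniteDimensional K L := by
  have := isSeparable_fraction (K := K) (L := L) hsep
  have h1 : Algebra.EssFiniteType B L := Algebra.EssFiniteType.of_isLocalization L (nonZeroDivisors B)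
  have h2 : Algebra.EssFiniteType A L := Algebra.EssFiniteType.comp A B L
  have : Algebra.EssFiniteType K L := Algebra.EssFiniteType.of_comp A K L
  exact Algebra.finite_of_essFiniteType_of_isAlgebraic

end Frac

theorem infinite_of_isSepClosed (E : Type*) [Field E] [IsSepClosed E] : Infinite E := by
  refine not_finite_iff_infinite.1 fun hfin => ?_
  have := Fintype.ofFinite E
  set q := Fintype.card E
  have hq : 1 < q := Fintype.one_lt_card
  let p : E[X] := X ^ q - X + 1
  have hd : derivative p = -1 := by
    simp [p, q, derivative_pow]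
  have hsep : p.Separable := ⟨0, -1, by rw [hd]; ring⟩
  have hdeg : p.degree ≠ 0 := by
    intro h
    have h3 : p.coeff q = 1 := by
      show (X ^ q - X + 1 : E[X]).coeff q = 1
      rw [coeff_add, coeff_sub, coeff_X_pow_self, coeff_X_of_ne_one (by omega), coeff_one, if_neg (by omega)]
      simp
    rw [eq_C_of_degree_eq_zero h, coeff_C, if_neg (by omega)] at h3
    exact zero_ne_one h3
  obtain ⟨z, hz⟩ := IsSepClosed.exists_root p hdeg hsep
  simp [p, q, FiniteField.pow_card] at hz

section Core

variable {R : Type u} [CommRing R] [IsDomain R] [UniqueFactorizationMonoid R]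
  {B : Type u} [CommRing B] [IsDomain B] [Algebra R[X] B] [Algebra.FiniteType R[X] B]
  [FaithfulSMul R[X] B]

/-- A plane chart of a relative curve. -/
theorem exists_chart (hsep : SepAlgOver R[X] B) {g : B} (hg : g ≠ 0) :
    ∃ (f : R[X][Y]) (a : R[X]) (b₁ b₂ : B)
      (β : B →+* Localization.Away (AdjoinRoot.of f a)) (U V : R[X][Y]) (d : R[X]),
      f.Monic ∧ 0 < f.natDegree ∧ a ≠ 0 ∧ d ≠ 0 ∧
      U * f + V * derivative f = C d ∧
      (∀ r : R[X], β (algebraMap R[X] B r) = algebraMap _ _ (AdjoinRoot.of f r)) ∧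
      β b₁ = β b₂ * algebraMap _ _ (AdjoinRoot.root f) ∧ IsUnit (β (g * b₂)) := by
  classical
  let K := FractionRing R[X]
  let L := FractionRing B
  have : IsScalarTower R[X] B L := inferInstance
  have : FaithfulSMul R[X] L := (faithfulSMul_iff_algebraMap_injective _ _).2
    (by rw [IsScalarTower.algebraMap_eq R[X] B L]
        exact (IsFractionRing.injective B L).comp (FaithfulSMul.algebraMap_injective R[X] B))
  letI : Algebra K L := FractionRing.liftAlgebra R[X] L
  have : IsScalarTower R[X] K L := FractionRing.isScalarTower_liftAlgebra R[X] L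
  have := isSeparable_fraction (K := K) (L := L) hsep
  have := finite_fraction (K := K) (L := L) hsep
  obtain ⟨α, hα⟩ := Field.exists_primitive_element K L
  obtain ⟨m, hm⟩ := IsIntegral.exists_multiple_integral_of_isLocalization
    (Rₘ := K) (nonZeroDivisors R[X]) α (Algebra.IsIntegral.isIntegral α)
  set y := m • α with hy
  have hm0 : algebraMap R[X] L (m : R[X]) ≠ 0 := fun h =>
    nonZeroDivisors.ne_zero m.2 ((map_eq_zero_iff _ (FaithfulSMul.algebraMap_injective R[X] L)).1 h)
  have htop : Algebra.adjoin K {y} = ⊤ := by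
    rw [← IntermediateField.adjoin_simple_toSubalgebra_of_isAlgebraic (Algebra.IsAlgebraic.isAlgebraic y),
      ← IntermediateField.top_toSubalgebra]
    congr 1
    rw [eq_top_iff, ← hα]
    refine IntermediateField.adjoin_simple_le_iff.2 ?_
    have hαy : α = algebraMap K L (algebraMap R[X] K (m : R[X]))⁻¹ * y := by
      rw [hy, Submonoid.smul_def, Algebra.smul_def, map_inv₀, ← IsScalarTower.algebraMap_apply,
        inv_mul_cancel_left₀ hm0]
    rw [hαy]
    exact mul_mem (IntermediateField.algebraMap_mem _ _) (IntermediateField.mem_adjoin_simple_self K y)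
  set f := minpoly R[X] y with hf
  have hmap : minpoly K y = f.map (algebraMap R[X] K) := minpoly.isIntegrallyClosed_eq_field_fractions' K hm
  have hrepr : ∀ z : L, ∃ (a : R[X]) (P : R[X][Y]), a ≠ 0 ∧ algebraMap R[X] L a * z = aeval y P := by
    intro z
    have hz : z ∈ Algebra.adjoin K {y} := htop ▸ Algebra.mem_top
    rw [Algebra.adjoin_singleton_eq_range_aeval] at hz
    obtain ⟨P₀, rfl⟩ := hz
    obtain ⟨a, P, ha, hP⟩ := exists_integral_repr (A := R[X]) P₀
    refine ⟨a, P, nonZeroDivisors.ne_zero ha, ?_⟩
    rw [← aeval_map_algebraMap K y P, hP, map_mul, aeval_C, ← IsScalarTower.algebraMap_apply]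
    rfl
  obtain ⟨b₁, b₂, hb₂, hb⟩ := IsFractionRing.div_surjective (A := B) y
  obtain ⟨S, hS⟩ := ‹Algebra.FiniteType R[X] B›.out
  choose a P ha hP using hrepr
  set v := (algebraMap B L (g * b₂))⁻¹ with hv
  set aa := a v * ∏ s ∈ S, a (algebraMap B L s) with haa
  have haa0 : aa ≠ 0 := mul_ne_zero (ha _) (Finset.prod_ne_zero_iff.2 fun s _ => ha _)
  let κ₀ : AdjoinRoot f →+* L := AdjoinRoot.lift (algebraMap R[X] L) y (minpoly.aeval R[X] y)
  have hof : ∀ r, κ₀ (AdjoinRoot.of f r) = algebraMap R[X] L r := fun r => AdjoinRoot.lift_of _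
  have hmk : ∀ p, κ₀ (AdjoinRoot.mk f p) = aeval y p := fun p => AdjoinRoot.lift_mk _ p
  have hroot : κ₀ (AdjoinRoot.root f) = y := AdjoinRoot.lift_root _
  have hκ₀ : Function.Injective κ₀ := by
    rw [injective_iff_map_eq_zero]
    intro q hq
    induction q using AdjoinRoot.induction_on with
    | ih p =>
      rw [hmk] at hq
      exact AdjoinRoot.mk_eq_zero.2 (minpoly.isIntegrallyClosed_dvd hm hq)
  set a' := AdjoinRoot.of f aa with ha'
  have hu : IsUnit (κ₀ a') := by
    rw [ha', hof, isUnit_iff_ne_zero, Ne,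
      map_eq_zero_iff _ (FaithfulSMul.algebraMap_injective R[X] L)]
    exact haa0
  let Cl := Localization.Away a'
  let κ : Cl →+* L := IsLocalization.Away.lift a' hu
  have hκe : ∀ q, κ (algebraMap _ Cl q) = κ₀ q := IsLocalization.Away.lift_eq a' hu
  have hκ : Function.Injective κ := by
    refine (IsLocalization.lift_injective_iff _).2 fun p q => ⟨fun h => ?_, fun h => by rw [hκ₀ h]⟩
    rw [← hκe p, ← hκe q, h]
  have hmem : ∀ (z : L), a z ∣ aa → z ∈ κ.range := by
    intro z hz
    obtain ⟨r, hr⟩ := hz
    obtain ⟨w, hw⟩ := (IsLocalization.Away.algebraMap_isUnit (S := Cl) a').exists_right_inv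
    refine ⟨algebraMap _ Cl (AdjoinRoot.of f r * AdjoinRoot.mk f (P z)) * w, ?_⟩
    have hw' : κ₀ a' * κ w = 1 := by rw [← hκe, ← map_mul, hw, map_one]
    rw [map_mul, hκe, map_mul, hof, hmk, ← hP z,
      ← mul_assoc (algebraMap R[X] L r), ← map_mul, mul_comm r, ← hr]
    have hw'' : algebraMap R[X] L aa * κ w = 1 := by rw [← hof aa]; exact hw'
    rw [mul_comm (algebraMap R[X] L aa), mul_assoc, hw'', mul_one]
  have hrange : ∀ b : B, algebraMap B L b ∈ κ.range := by
    intro b
    have hb' : b ∈ Algebra.adjoin R[X] (S : Set B) := hS ▸ trivial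
    induction hb' using Algebra.adjoin_induction with
    | mem s hs => exact hmem _ (dvd_mul_of_dvd_right (Finset.dvd_prod_of_mem _ hs) _)
    | algebraMap r => exact ⟨algebraMap _ Cl (AdjoinRoot.of f r), by
        rw [hκe, hof, ← IsScalarTower.algebraMap_apply]⟩
    | add p q _ _ hp hq => rw [map_add]; exact κ.range.add_mem hp hq
    | mul p q _ _ hp hq => rw [map_mul]; exact κ.range.mul_mem hp hq
  choose βf hβf using hrange
  let β : B →+* Cl :=
    { toFun := βf
      map_one' := hκ (by rw [hβf, map_one, map_one])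
      map_mul' := fun p q => hκ (by rw [map_mul κ, hβf, hβf, hβf, map_mul])
      map_zero' := hκ (by rw [hβf, map_zero, map_zero])
      map_add' := fun p q => hκ (by rw [map_add κ, hβf, hβf, hβf, map_add]) }
  have hβ : ∀ b, κ (β b) = algebraMap B L b := hβf
  have hfK : (f.map (algebraMap R[X] K)).Separable := hmap ▸ Algebra.IsSeparable.isSeparable K y
  obtain ⟨u, w, huw⟩ := hfK
  obtain ⟨du, U, hdu, hU⟩ := exists_integral_repr (A := R[X]) u
  obtain ⟨dw, W, hdw, hW⟩ := exists_integral_repr (A := R[X]) w
  refine ⟨f, aa, b₁, b₂, β, C dw * U, C du * W, du * dw, minpoly.monic hm, minpoly.natDegree_pos hm,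
    haa0, mul_ne_zero (nonZeroDivisors.ne_zero hdu) (nonZeroDivisors.ne_zero hdw), ?_, fun r => ?_, ?_, ?_⟩
  · refine Polynomial.map_injective _ (IsFractionRing.injective R[X] K) ?_
    simp only [Polynomial.map_add, Polynomial.map_mul, Polynomial.map_C, hU, hW, ← derivative_map, map_mul]
    linear_combination (C (algebraMap R[X] K du) * C (algebraMap R[X] K dw)) * huw
  · refine hκ ?_
    rw [hβ, hκe, hof, ← IsScalarTower.algebraMap_apply]
  · refine hκ ?_
    rw [map_mul κ, hβ, hβ, hκe, hroot, ← hb, mul_div_cancel₀]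
    exact fun h => nonZeroDivisors.ne_zero hb₂ ((map_eq_zero_iff _ (IsFractionRing.injective B L)).1 h)
  · obtain ⟨c, hc⟩ := hmem v (dvd_mul_right _ _)
    refine IsUnit.of_mul_eq_one c (hκ ?_)
    rw [map_mul κ, hβ, hc, hv, map_one, mul_inv_cancel₀]
    refine fun h => mul_ne_zero hg (nonZeroDivisors.ne_zero hb₂) ?_
    exact (map_eq_zero_iff _ (IsFractionRing.injective B L)).1 h

end Core

end Groth.Agent.Zeta30
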